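import Cfsg.Agent.Lib.LinearAny.Defs
import Cfsg.Agent.Lib.LinearMax.ClassTwo
import Cfsg.Agent.Lib.SLEight.Core
import Cfsg.Agent.Lib.SLEight.Pauli

/-!
The class two case of the subgroup structure theorem for `SL_n`: a group of symplectic type, a subfield or a
classical form.
-/

set_option autoImplicit false
set_option linter.unusedSectionVars false
set_option maxHeartbeats 1000000

namespace Cfsg.Agent.Lib.LinearAny

open Cfsg.Geo Matrix Cfsg.Agent.Lib.SLTwoPrime Cfsg.Agent.Lib.SLEight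
open scoped MatrixGroups Kronecker commutatorElement

variable {F : Type*} [Field F] [Fintype F] {n : ℕ}

/-- a group whose scalar norms are one fixes a unitary form, in any characteristic -/
theorem le_unitary (hn : 0 < n) {R H : Subgroup (GL (Fin n) F)} (htop : adj R = ⊤) 
    (hab : ∀ x ∈ R, ∀ y ∈ R, x * y * x⁻¹ * y⁻¹ ∈ scalars (Fin n) F)
    (hnorm : ∀ g ∈ H, ∀ x ∈ R, g * x * g⁻¹ ∈ R) (σ : F ≃+* F) (hσ : ∀ a, σ (σ a) = a)
    (hid : ¬ ∀ a, σ a = a)
    (hsc : ∀ z ∈ R, ∀ c : F, (z : Matrix (Fin n) (Fin n) F) = c • 1 → c * σ c = 1) :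
    (∃ (s : F ≃+* F) (f : (Fin n → F) → (Fin n → F) → F), IsUnitaryForm s f ∧ H ≤ similarityGroup f) := by
  classical
  haveI : Nonempty (Fin n) := ⟨⟨0, hn⟩⟩
  obtain ⟨b, hb⟩ := exists_rep_basis htop hab
  have : Fintype (R ⧸ (scalars (Fin n) F).subgroupOf R) := Fintype.ofFinite _
  let ψ : GL (Fin n) F → Matrix (Fin n) (Fin n) F := fun g =>
    (((g⁻¹ : GL (Fin n) F) : Matrix (Fin n) (Fin n) F)ᵀ).map σ
  have hψmul : ∀ g h, ψ (g * h) = ψ g * ψ h := fun g h => by
    simp only [ψ, _root_.mul_inv_rev, Units.val_mul, transpose_mul, Matrix.map_mul]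
  have hψsc : ∀ z ∈ R, ∀ c : F, (z : Matrix (Fin n) (Fin n) F) = c • 1 → ψ z = c • 1 := by
    intro z hz c hc
    have hc0 : c ≠ 0 := left_ne_zero_of_mul_eq_one (hsc z hz c hc)
    have hinv : ((z⁻¹ : GL (Fin n) F) : Matrix (Fin n) (Fin n) F) = c⁻¹ • 1 := by
      have := z.inv_mul
      rw [hc, mul_smul_comm, mul_one] at this
      rw [← this, smul_smul, inv_mul_cancel₀ hc0, one_smul]
    have : σ c⁻¹ = c := by rw [map_inv₀]; exact inv_eq_of_mul_eq_one_left (hsc z hz c hc)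
    show (((z⁻¹ : GL (Fin n) F) : Matrix (Fin n) (Fin n) F)ᵀ).map σ = _
    rw [hinv]
    simp [Matrix.smul_one_eq_diagonal, Matrix.diagonal_map, ← map_inv₀ σ, this]
  let f : R ⧸ (scalars (Fin n) F).subgroupOf R → Matrix (Fin n) (Fin n) F := fun q => ψ (q.out : GL (Fin n) F)
  have hrep : ∀ x (hx : x ∈ R), ∃ (c : F) (r : R ⧸ (scalars (Fin n) F).subgroupOf R),
      (x : Matrix (Fin n) (Fin n) F) = c • b r ∧ ψ x = c • f r := by
    intro x hx
    obtain ⟨z, c, hzR, hzs, hzc, hxeq, hxm⟩ := rep_smul hx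
    refine ⟨c, QuotientGroup.mk (⟨x, hx⟩ : R), by rw [hb]; exact hxm, ?_⟩
    conv_lhs => rw [hxeq, hψmul, hψsc z hzR c hzc, mul_smul_comm, mul_one]
  obtain ⟨Θ, hΘ⟩ := exists_hom_of_basis b f (fun p q => by
      obtain ⟨c, r, h1, h3⟩ := hrep _ (R.mul_mem p.out.2 q.out.2)
      refine ⟨c, r, ?_, ?_⟩
      · rw [hb, hb, ← Units.val_mul]; exact h1
      · rw [← h3]; exact (hψmul _ _).symm) (by
      obtain ⟨c, r, h1, h3⟩ := hrep 1 R.one_mem
      have e : (1 : Matrix (Fin n) (Fin n) F) = c • b r := h1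
      rw [e, map_smul, Module.Basis.constr_basis, ← h3, ← e]
      simp [ψ])
  obtain ⟨G, hG⟩ := exists_inner hn Θ
  set G' := (G : Matrix (Fin n) (Fin n) F).map σ with hG'
  let fm : (Fin n → F) → (Fin n → F) → F := fun u v => u ⬝ᵥ (G' *ᵥ fun i => σ (v i))
  have hsmulv : ∀ (c : F) (v : Fin n → F), (fun i => σ ((c • v) i)) = σ c • fun i => σ (v i) := fun c v => by
    funext i; simp
  have haddv : ∀ (v w : Fin n → F), (fun i => σ ((v + w) i)) = (fun i => σ (v i)) + fun i => σ (w i) := fun v w => by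
    funext i; simp
  have hses : Sesq σ fm := ⟨fun x y v => add_dotProduct _ _ _, fun c x v => by simp [fm, smul_dotProduct],
    fun v x y => by simp only [fm]; rw [haddv, mulVec_add, dotProduct_add],
    fun c v x => by simp only [fm]; rw [hsmulv, mulVec_smul, dotProduct_smul, smul_eq_mul]⟩
  have hGu : IsUnit G' := by
    have h1 : IsUnit (G : Matrix (Fin n) (Fin n) F) := Units.isUnit G
    exact h1.map σ.toRingHom.mapMatrix
  have hnd : IsNondegenerateForm fm := by
    intro v hv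
    have hsv : (fun i => σ (v i)) ≠ 0 := fun h => hv (funext fun i => σ.injective (by simpa using congrFun h i))
    refine ⟨?_, ?_⟩
    · have hne : G' *ᵥ (fun i => σ (v i)) ≠ 0 := fun h => hsv ((Matrix.mulVec_injective_iff_isUnit.2 hGu)
        (h.trans (mulVec_zero _).symm))
      obtain ⟨i, hi⟩ := Function.ne_iff.1 hne
      exact ⟨Pi.single i 1, by simpa [fm] using hi⟩
    · have hne : v ᵥ* G' ≠ 0 := fun h => hv ((Matrix.vecMul_injective_iff_isUnit.2 hGu) (h.trans (zero_vecMul _).symm))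
      obtain ⟨i, hi⟩ := Function.ne_iff.1 hne
      refine ⟨Pi.single i 1, ?_⟩
      simp only [fm, dotProduct_mulVec]
      have : (fun j => σ ((Pi.single i (1 : F) : Fin n → F) j)) = Pi.single i 1 := by
        funext j; by_cases h : j = i <;> simp [h]
      rw [this]; simpa using hi
  have hfix : FixesForm (matrixSet R) fm := by
    rintro _ ⟨r, hr, rfl⟩ u v
    obtain ⟨c, q, h1, h3⟩ := hrep r hr
    have hΘr : Θ (r : Matrix (Fin n) (Fin n) F) = ψ r := by rw [h1, map_smul, hΘ, h3]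
    rw [hG] at hΘr
    have key : (r : Matrix (Fin n) (Fin n) F)ᵀ * G' * (r : Matrix (Fin n) (Fin n) F).map σ = G' := by
      have e0 := congrArg (fun m => ((r : Matrix (Fin n) (Fin n) F)ᵀ).map σ * m * (G : Matrix (Fin n) (Fin n) F)) hΘr
      simp only [ψ, mul_assoc, Units.inv_mul, mul_one] at e0
      rw [← mul_assoc ((r : Matrix (Fin n) (Fin n) F)ᵀ.map σ) (((r⁻¹ : GL (Fin n) F) : Matrix (Fin n) (Fin n) F)ᵀ.map σ),
        ← Matrix.map_mul, ← transpose_mul, Units.inv_mul, transpose_one,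
        Matrix.map_one _ (map_zero σ) (map_one σ), one_mul] at e0
      have e1 := congrArg (fun m : Matrix (Fin n) (Fin n) F => m.map σ) e0
      simpa [hG', transpose_mul, Matrix.map_mul, Matrix.transpose_map, Matrix.map_map, Function.comp_def, hσ, mul_assoc] using e1
    show ((r : Matrix (Fin n) (Fin n) F) *ᵥ u) ⬝ᵥ (G' *ᵥ fun i => σ (((r : Matrix (Fin n) (Fin n) F) *ᵥ v) i)) = u ⬝ᵥ _
    have e : (fun i => σ (((r : Matrix (Fin n) (Fin n) F) *ᵥ v) i)) = (r : Matrix (Fin n) (Fin n) F).map σ *ᵥ fun i => σ (v i) :=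
      funext fun i => RingHom.map_mulVec σ.toRingHom _ _ i
    rw [e, dotProduct_comm, dotProduct_mulVec, ← mulVec_transpose, dotProduct_comm, mulVec_mulVec, mulVec_mulVec,
      key]
  set f' : (Fin n → F) → (Fin n → F) → F := fun u v => σ (fm v u)
  have hses' : Sesq σ f' := ⟨fun x y v => by simp [f', hses.add_right], fun c x v => by simp [f', hses.smul_right, hσ],
    fun v x y => by simp [f', hses.add_left], fun c v x => by simp [f', hses.smul_left]⟩
  obtain ⟨c, hc⟩ := hses.proportional htop hses' hnd hfix fun s hs u v => by simp only [f', hfix s hs]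
  have hsim := le_similarityGroup htop hnorm hses hnd hfix
  have hcc : c * σ c = 1 := by
    obtain ⟨v, hv⟩ := exists_ne (0 : Fin n → F)
    obtain ⟨x, hx⟩ := (hnd v hv).1
    have h1 := congrArg σ (hc v x)
    simp only [f', hσ, map_mul] at h1
    have h3 := hc x v
    simp only [f'] at h3
    rw [h3] at h1
    exact (mul_left_eq_self₀.1 (show (c * σ c) * fm x v = fm x v by linear_combination -h1)).resolve_right hx
  obtain ⟨a, ha, haσ⟩ : ∃ a : F, a ≠ 0 ∧ σ a * c = a := by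
    have key : ∀ x, σ (x + c * σ x) * c = x + c * σ x := fun x => by
      rw [map_add, map_mul, hσ]; linear_combination x * hcc
    by_cases h1 : (1 : F) + c * σ 1 = 0
    · push Not at hid
      obtain ⟨x, hx⟩ := hid
      refine ⟨x + c * σ x, fun h0 => hx ?_, key x⟩
      rw [map_one, mul_one] at h1
      linear_combination -h0 + (σ x) * h1
    · exact ⟨_, h1, key 1⟩
  refine ⟨σ, fun u v => a * fm u v, ⟨fun h => hid fun x => by rw [h]; rfl, hσ, ?_, ?_, ?_, fun v hv => ?_⟩, fun g hg => ?_⟩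
  · intro x y v; rw [hses.add_left, mul_add]
  · intro d x v; rw [hses.smul_left]; ring
  · intro v w
    have := hc v w
    simp only [f'] at this
    rw [map_mul, this]; linear_combination (fm v w) * haσ.symm
  · obtain ⟨⟨x, hx⟩, ⟨y, hy⟩⟩ := hnd v hv
    exact ⟨⟨x, mul_ne_zero ha hx⟩, ⟨y, mul_ne_zero ha hy⟩⟩
  · obtain ⟨d, hd⟩ := hsim hg
    exact ⟨d, fun u v => by show a * fm _ _ = _; rw [hd]; ring⟩


local notation "GLn" => Matrix.GeneralLinearGroup (Fin n) F
local notation "MM" => Matrix (Fin n) (Fin n) F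
local notation "ZZ" => Cfsg.Geo.scalars (Fin n) F

/-- powers of a product with central commutator -/
theorem pow_mul_of_comm {G : Type*} [Group G] {g h c : G} (hc : ∀ x, c * x = x * c) (hgh : h * g = c * (g * h))
    (m : ℕ) : (g * h) ^ m = c ^ m.choose 2 * (g ^ m * h ^ m) := by
  have hcm : ∀ (i : ℕ) (x : G), c ^ i * x = x * c ^ i := fun i x => ((Commute.pow_left (hc x) i)).eq
  have hpow : ∀ i : ℕ, h ^ i * g = c ^ i * (g * h ^ i) := by
    intro i
    induction i with
    | zero => simp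
    | succ i ih =>
      rw [pow_succ h i, mul_assoc, hgh, ← mul_assoc (h ^ i), ← hc, mul_assoc c, ← mul_assoc (h ^ i) g, ih,
        ← mul_assoc c, ← mul_assoc c, ← pow_succ']
      simp only [mul_assoc]
  induction m with
  | zero => simp
  | succ m ih =>
    rw [pow_succ, ih, mul_assoc, mul_assoc, ← mul_assoc (h ^ m) g, hpow, Nat.choose_succ_succ, Nat.choose_one_right,
      show m + Nat.choose m 2 = Nat.choose m 2 + m from add_comm _ _, pow_add]
    rw [show g ^ m * (c ^ m * (g * h ^ m) * h) = c ^ m * (g ^ m * (g * h ^ m * h)) by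
      rw [← mul_assoc, ← mul_assoc, ← mul_assoc, ← mul_assoc, ← hcm m (g ^ m)]; simp only [mul_assoc]]
    simp only [pow_succ, mul_assoc]

/-- the class two case -/
theorem class_six (hn : 3 ≤ n) {H N : Subgroup GLn} (hHS : H ≤ specialLinear (Fin n) F) (hNH : N ≤ H)
    (hnorm : ∀ g ∈ H, ∀ x ∈ N, g * x * g⁻¹ ∈ N) (hns : ¬ N ≤ ZZ)
    (hmin : ∀ M, M ≤ N → (∀ g ∈ H, ∀ x ∈ M, g * x * g⁻¹ ∈ M) → ¬ M ≤ ZZ → M ⊔ (ZZ ⊓ H) = N)
    (hirrH : ActsIrreducibly (matrixSet H)) (hgeo : ¬ InGeo H)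
    (habs : ActsAbsolutelyIrreducibly (matrixSet N)) (hcomm : ⁅N, N⁆ ≤ ZZ) : False := by
  classical
  haveI : Nonempty (Fin n) := ⟨⟨0, by omega⟩⟩
  haveI : (scalars (Fin n) F).Normal := scalars_normal
  have hn' : 0 < n := by omega
  have hQ : Nat.card (N ⧸ (ZZ).subgroupOf N) = n * n := by
    rw [LinearMax.card_quotient habs hcomm, Fintype.card_fin]
  -- a single prime
  set r := n.minFac with hrdef
  have hr : r.Prime := Nat.minFac_prime (by omega)
  have hrn : r ∣ n := Nat.minFac_dvd n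
  have honly : ∀ s : ℕ, s.Prime → s ∣ n → s = r := by
    intro s hs hsn
    by_contra hne
    exact LinearMax.classTwo_false hnorm hns hmin habs hcomm hs hr hne
      (by rwa [Fintype.card_fin]) (by rwa [Fintype.card_fin])
  have hnpow : ∃ m, 1 ≤ m ∧ n = r ^ m := by
    refine ⟨n.primeFactorsList.length, ?_, ?_⟩
    · by_contra hcon
      have h0 : n.primeFactorsList = [] := List.eq_nil_of_length_eq_zero (by omega)
      rcases (Nat.primeFactorsList_eq_nil n).1 h0 with h | h <;> omega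
    · exact Nat.eq_prime_pow_of_unique_prime_dvd (by omega) fun {d} hd hdn => honly d hd hdn
  obtain ⟨m, hm1, hnm⟩ := hnpow
  -- scalars as a homomorphism
  let sc : Fˣ →* GLn := Units.map (Matrix.scalar (Fin n) : F →+* MM).toMonoidHom
  have hscval : ∀ u : Fˣ, (sc u : MM) = (u : F) • 1 := fun u => by simp [sc, Matrix.smul_one_eq_diagonal]
  have hscinj : Function.Injective sc := fun u v h => by
    have := congrArg (fun z : GLn => (z : MM) ⟨0, hn'⟩ ⟨0, hn'⟩) h
    exact Units.ext (by simpa [hscval] using this)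
  have hscmem : ∀ u, sc u ∈ ZZ := fun u => ⟨u, rfl⟩
  have hcen : ∀ z ∈ ZZ, ∀ x : GLn, z * x = x * z := fun z hz x => by
    obtain ⟨u, hu⟩ := (mem_scalars_iff z).1 hz
    exact Units.ext (by simp [Units.val_mul, hu])
  have hconjsc : ∀ z ∈ ZZ, ∀ g : GLn, g * z * g⁻¹ = z := fun z hz g => by
    rw [← hcen z hz g, mul_inv_cancel_right]
  -- the r-th powers are scalars
  let π := QuotientGroup.mk' (ZZ)
  have hπ : ∀ x : GLn, π x = 1 ↔ x ∈ ZZ := fun x => QuotientGroup.eq_one_iff x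
  have hπc : ∀ x ∈ N, ∀ y ∈ N, Commute (π x) (π y) := fun x hx y hy =>
    commutatorElement_eq_one_iff_commute.1 (by
      rw [← map_commutatorElement, hπ]; exact hcomm (Subgroup.commutator_mem_commutator hx hy))
  have hxr : ∀ x ∈ N, x ^ r ∈ ZZ := by
    let M : Subgroup GLn :=
      { carrier := {x | x ∈ N ∧ π x ^ r = 1}
        mul_mem' := fun {x y} hx hy => ⟨N.mul_mem hx.1 hy.1, by
          rw [map_mul, (hπc x hx.1 y hy.1).mul_pow, hx.2, hy.2, one_mul]⟩
        one_mem' := ⟨N.one_mem, by rw [map_one, one_pow]⟩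
        inv_mem' := fun {x} hx => ⟨N.inv_mem hx.1, by rw [map_inv, inv_pow, hx.2, inv_one]⟩ }
    have hMnorm : ∀ g ∈ H, ∀ x ∈ M, g * x * g⁻¹ ∈ M := fun g hg x hx => ⟨hnorm g hg x hx.1, by
      rw [map_mul, map_mul, map_inv, conj_pow, hx.2, mul_one, mul_inv_cancel]⟩
    have hMs : ¬ M ≤ ZZ := by
      intro hle
      haveI : Fact r.Prime := ⟨hr⟩
      obtain ⟨q, hq⟩ := exists_prime_orderOf_dvd_card' (G := N ⧸ (ZZ).subgroupOf N) r (by
        rw [hQ]; exact dvd_mul_of_dvd_left hrn _)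
      obtain ⟨⟨x, hx⟩, rfl⟩ := QuotientGroup.mk_surjective q
      have hxm : x ^ r ∈ ZZ := by
        have h := pow_orderOf_eq_one (QuotientGroup.mk (⟨x, hx⟩ : N) : N ⧸ (ZZ).subgroupOf N)
        rw [hq, ← QuotientGroup.mk_pow, QuotientGroup.eq_one_iff, Subgroup.mem_subgroupOf] at h
        simpa using h
      have hxs : x ∈ ZZ := hle ⟨hx, by rw [← map_pow, hπ]; exact hxm⟩
      rw [orderOf_eq_one_iff.2 ((QuotientGroup.eq_one_iff _).2 (Subgroup.mem_subgroupOf.2 hxs))] at hq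
      exact hr.ne_one hq.symm
    intro x hx
    have hN := hmin M (fun x hx => hx.1) hMnorm hMs
    have hle : ZZ ⊓ H ≤ M := fun z hz => ⟨hN.le (Subgroup.mem_sup_right hz), by
      rw [(hπ z).2 hz.1, one_pow]⟩
    rw [sup_eq_left.2 hle] at hN
    rw [← hN] at hx
    rw [← hπ, map_pow]; exact hx.2
  -- commutators in `N ⊔ ZZ`
  have hcom : ∀ g ∈ N ⊔ ZZ, ∀ h ∈ N ⊔ ZZ, h * g * h⁻¹ * g⁻¹ ∈ ZZ ∧ (h * g * h⁻¹ * g⁻¹) ^ r = 1 := by
    intro g hg h hh
    obtain ⟨x, hx, s, hs, rfl⟩ := Subgroup.mem_sup_of_normal_right.1 hg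
    obtain ⟨y, hy, t, ht, rfl⟩ := Subgroup.mem_sup_of_normal_right.1 hh
    have e : y * t * (x * s) * (y * t)⁻¹ * (x * s)⁻¹ = y * x * y⁻¹ * x⁻¹ := by
      have e1 : t * (x * s) = x * s * t := hcen t ht _
      have e2 : s * y⁻¹ = y⁻¹ * s := hcen s hs _
      calc y * t * (x * s) * (y * t)⁻¹ * (x * s)⁻¹
          = y * (t * (x * s)) * t⁻¹ * y⁻¹ * (x * s)⁻¹ := by group
        _ = y * (x * s) * y⁻¹ * (x * s)⁻¹ := by rw [e1]; group
        _ = y * x * (s * y⁻¹) * s⁻¹ * x⁻¹ := by group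
        _ = _ := by rw [e2]; group
    rw [e]
    set c := y * x * y⁻¹ * x⁻¹ with hc
    have hcZ : c ∈ ZZ := by
      rw [hc, ← commutatorElement_def]; exact hcomm (Subgroup.commutator_mem_commutator hy hx)
    refine ⟨hcZ, ?_⟩
    have h1 : y * x ^ r * y⁻¹ = x ^ r := hconjsc _ (hxr x hx) y
    have h2 : y * x * y⁻¹ = c * x := by rw [hc]; group
    rw [← conj_pow, h2, (show Commute c x from hcen c hcZ x).mul_pow] at h1
    exact mul_eq_right.1 h1
  -- the exponent
  set k := r * Nat.gcd 2 r with hk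
  have hchoose : r ∣ k.choose 2 := by
    rcases hr.eq_two_or_odd' with h | h
    · rw [hk, h]; norm_num [Nat.choose]
    · have hg : Nat.gcd 2 r = 1 := (Nat.coprime_two_left.2 h)
      rw [hk, hg, mul_one]
      exact hr.dvd_choose_self two_ne_zero (by rcases h with ⟨i, hi⟩; have := hr.two_le; omega)
  have hk0 : 0 < k := by rw [hk]; exact Nat.mul_pos hr.pos (Nat.gcd_pos_of_pos_left _ (by norm_num))
  have hmulpow : ∀ g ∈ N ⊔ ZZ, ∀ h ∈ N ⊔ ZZ, (g * h) ^ k = g ^ k * h ^ k := by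
    intro g hg h hh
    obtain ⟨hZ, h1⟩ := hcom g hg h hh
    rw [pow_mul_of_comm (c := h * g * h⁻¹ * g⁻¹) (hcen _ hZ) (by group) k]
    obtain ⟨j, hj⟩ := hchoose
    rw [hj, pow_mul, h1, one_pow, one_mul]
  -- lifting to exponent `k`
  have hlift0 : ∀ x ∈ N, ∃ d : Fˣ, x ^ k = sc d ^ k := by
    let K : Subgroup GLn :=
      { carrier := {x | x ∈ N ∧ ∃ d : Fˣ, x ^ k = sc d ^ k}
        one_mem' := ⟨N.one_mem, 1, by simp⟩
        mul_mem' := fun {x y} hx hy => by
          obtain ⟨hx, d, hd⟩ := hx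
          obtain ⟨hy, e, he⟩ := hy
          refine ⟨N.mul_mem hx hy, d * e, ?_⟩
          rw [hmulpow x (Subgroup.mem_sup_left hx) y (Subgroup.mem_sup_left hy), hd, he, map_mul,
            (show Commute (sc d) (sc e) from hcen _ (hscmem d) _).mul_pow]
        inv_mem' := fun {x} hx => by
          obtain ⟨hx, d, hd⟩ := hx
          exact ⟨N.inv_mem hx, d⁻¹, by rw [inv_pow, hd, map_inv, inv_pow]⟩ }
    have hKn : ∀ g ∈ H, ∀ x ∈ K, g * x * g⁻¹ ∈ K := by
      rintro g hg x ⟨hx, d, hd⟩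
      exact ⟨hnorm g hg x hx, d, by rw [conj_pow, hd, hconjsc _ (Subgroup.pow_mem _ (hscmem d) k)]⟩
    have hKs : ¬ K ≤ ZZ := by
      intro hle
      obtain ⟨u, hu⟩ := IsCyclic.exists_generator (α := Fˣ)
      have hcls : ∀ x ∈ N, ∃ i : ℤ, x ^ r = sc (u ^ i) := fun x hx => by
        obtain ⟨a, ha⟩ := hxr x hx
        obtain ⟨i, rfl⟩ := Subgroup.mem_zpowers_iff.1 (hu a)
        exact ⟨i, ha.symm⟩
      choose idx hidx using hcls
      haveI : NeZero r := ⟨hr.ne_zero⟩
      let f : N ⧸ (ZZ).subgroupOf N → ZMod r := fun q => (idx _ q.out.2 : ZMod r)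
      have hf : Function.Injective f := by
        intro q q' he
        obtain ⟨t, ht⟩ := (ZMod.intCast_eq_intCast_iff_dvd_sub _ _ r).1 he
        set x := (q.out : GLn)
        set y := (q'.out : GLn)
        have hxy : x⁻¹ * y ∈ K := by
          refine ⟨N.mul_mem (N.inv_mem q.out.2) q'.out.2, u ^ t, ?_⟩
          rw [hmulpow _ (Subgroup.mem_sup_left (N.inv_mem q.out.2)) _ (Subgroup.mem_sup_left q'.out.2), inv_pow,
            hk, pow_mul, pow_mul, hidx _ q.out.2, hidx _ q'.out.2, ← map_pow, ← map_pow, ← map_inv, ← map_mul,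
            ← map_pow, ← inv_pow, ← mul_pow, ← _root_.zpow_neg, ← _root_.zpow_add, neg_add_eq_sub, ht,
            mul_comm (r : ℤ) t, _root_.zpow_mul, zpow_natCast, ← pow_mul]
        rw [← QuotientGroup.out_eq' q, ← QuotientGroup.out_eq' q']
        exact QuotientGroup.eq.2 (Subgroup.mem_subgroupOf.2 (hle hxy))
      have h1 := Nat.card_le_card_of_injective f hf
      rw [hQ, Nat.card_zmod] at h1
      have h2 : r ≤ n := Nat.le_of_dvd hn' hrn
      have h3 : n * 3 ≤ n * n := Nat.mul_le_mul_left n hn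
      omega
    have hN := hmin K (fun x hx => hx.1) hKn hKs
    have hle : ZZ ⊓ H ≤ K := fun z hz => by
      obtain ⟨d, rfl⟩ := hz.1
      exact ⟨hN.le (Subgroup.mem_sup_right hz), d, rfl⟩
    rw [sup_eq_left.2 hle] at hN
    intro x hx
    rw [← hN] at hx
    exact hx.2
  -- the group
  let R : Subgroup GLn :=
    { carrier := {g | g ∈ N ⊔ ZZ ∧ g ^ k = 1}
      one_mem' := ⟨Subgroup.one_mem _, one_pow k⟩
      mul_mem' := fun {g h} hg hh => ⟨mul_mem hg.1 hh.1, by rw [hmulpow g hg.1 h hh.1, hg.2, hh.2, one_mul]⟩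
      inv_mem' := fun {g} hg => ⟨inv_mem hg.1, by rw [inv_pow, hg.2, inv_one]⟩ }
  have hlift : ∀ x ∈ N, ∃ g ∈ R, ∃ d : F, (x : MM) = d • (g : MM) := by
    intro x hx
    obtain ⟨d, hd⟩ := hlift0 x hx
    refine ⟨x * sc d⁻¹, ⟨mul_mem (Subgroup.mem_sup_left hx) (Subgroup.mem_sup_right (hscmem _)), ?_⟩, d, ?_⟩
    · rw [(show Commute x (sc d⁻¹) from (hcen _ (hscmem _) x).symm).mul_pow, hd, map_inv, inv_pow, mul_inv_cancel]
    · rw [Units.val_mul, hscval, mul_smul_comm, mul_one, smul_smul]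
      simp
  have hNtop : adj N = ⊤ := by
    refine Algebra.toSubmodule_eq_top.1 (eq_top_iff.2 ?_)
    rw [← LinearMax.span_eq_top habs]
    exact Submodule.span_le.2 (fun y hy => Algebra.subset_adjoin hy)
  have hRtop : adj R = ⊤ := by
    rw [eq_top_iff, ← hNtop]
    refine Algebra.adjoin_le ?_
    rintro _ ⟨x, hx, rfl⟩
    obtain ⟨g, hg, d, hd⟩ := hlift x hx
    show (x : MM) ∈ adj R
    rw [hd]
    exact Subalgebra.smul_mem _ (mem_adj hg) d
  have hRab : ∀ g ∈ R, ∀ h ∈ R, g * h * g⁻¹ * h⁻¹ ∈ ZZ := fun g hg h hh => (hcom h hh.1 g hg.1).1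
  have hRn : ∀ g ∈ H, ∀ x ∈ R, g * x * g⁻¹ ∈ R := by
    intro g hg x hx
    refine ⟨?_, by rw [conj_pow, hx.2, mul_one, mul_inv_cancel]⟩
    obtain ⟨a, ha, z, hz, rfl⟩ := Subgroup.mem_sup_of_normal_right.1 hx.1
    rw [show g * (a * z) * g⁻¹ = (g * a * g⁻¹) * (g * z * g⁻¹) by group, hconjsc z hz]
    exact mul_mem (Subgroup.mem_sup_left (hnorm g hg a ha)) (Subgroup.mem_sup_right hz)
  have hRsc : ∀ z ∈ R, ∀ c : F, (z : MM) = c • 1 → c ^ k = 1 := by
    intro z hz c hc
    have h := congrArg Units.val hz.2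
    rw [Units.val_pow_eq_pow_val, hc, _root_.smul_pow, one_pow, Units.val_one] at h
    simpa using congrFun₂ h ⟨0, hn'⟩ ⟨0, hn'⟩
  -- a primitive r-th root of unity
  obtain ⟨ω, hωr, hω1⟩ : ∃ ω : Fˣ, ω ^ r = 1 ∧ ω ≠ 1 := by
    obtain ⟨x, hx, y, hy, hne⟩ : ∃ x ∈ N, ∃ y ∈ N, y * x ≠ x * y := by
      by_contra hall
      push Not at hall
      refine hns fun x hx => ?_
      obtain ⟨c, hc⟩ := scalar_of_commute hNtop (M := (x : MM)) fun y hy => by
        rw [← Units.val_mul, ← Units.val_mul, hall x hx y hy]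
      exact mem_scalars_of_val hc
    obtain ⟨⟨u, hu⟩, h2⟩ := hcom x (Subgroup.mem_sup_left hx) y (Subgroup.mem_sup_left hy)
    rw [← hu] at h2
    refine ⟨u, hscinj (by rw [map_pow, map_one]; exact h2), fun h => hne ?_⟩
    rw [h, map_one] at hu
    exact mul_inv_eq_iff_eq_mul.1 (mul_inv_eq_one.1 hu.symm)
  obtain ⟨p, hp⟩ := CharP.exists F
  obtain ⟨e, hpp, hq⟩ := FiniteField.card F p
  haveI := Fact.mk hpp
  haveI : ExpChar F p := ExpChar.prime hpp
  have hωord : orderOf ω = r := by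
    haveI := Fact.mk hr
    exact orderOf_eq_prime hωr hω1
  have hrq : r ∣ p ^ (e : ℕ) - 1 := by
    rw [← hq, ← Nat.card_eq_fintype_card, ← Nat.card_units, ← hωord]
    exact orderOf_dvd_natCard ω
  have hrp : r ≠ p := by
    intro h
    have h1 : 1 ≤ p ^ (e : ℕ) := Nat.one_le_pow _ _ hpp.pos
    have h2 : p ∣ p ^ (e : ℕ) := dvd_pow_self p e.ne_zero
    rw [h] at hrq
    have := Nat.dvd_sub h2 hrq
    rw [show p ^ (e : ℕ) - (p ^ (e : ℕ) - 1) = 1 by omega] at this
    exact hpp.one_lt.ne' (Nat.dvd_one.1 this)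
  have hclassical : ∀ σ : F ≃+* F, (∀ a, σ (σ a) = a) → (¬ ∀ a, σ a = a) →
      (∀ c : F, c ^ k = 1 → c * σ c = 1) → InGeo H := by
    intro σ hσ hid hs
    obtain ⟨s, f, hf, hHf⟩ := le_unitary hn' hRtop hRab hRn σ hσ hid (fun z hz c hc => hs c (hRsc z hz c hc))
    exact ⟨_, Or.inr (Or.inr (Or.inr (Or.inr (Or.inr (Or.inr (Or.inr (Or.inr (Or.inr (Or.inr (Or.inl
      ⟨s, f, hf, hn, rfl⟩)))))))))), hHf⟩
  by_cases hkq : k ∣ p ^ (e : ℕ) - 1
  swap
  · -- `r = 2` and `-1` is no square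
    have hr2 : r = 2 := by
      rcases hr.eq_two_or_odd' with h | h
      · exact h
      · refine absurd ?_ hkq
        rwa [hk, (Nat.coprime_two_left.2 h : Nat.gcd 2 r = 1), mul_one]
    have hk4 : k = 4 := by rw [hk, hr2]; rfl
    have hp2 : p ≠ 2 := fun h => hrp (hr2.trans h.symm)
    have h2 : (2 : F) ≠ 0 := by
      intro h
      have : ((2 : ℕ) : F) = 0 := by exact_mod_cast h
      rw [CharP.cast_eq_zero_iff F p] at this
      exact hp2 ((Nat.prime_dvd_prime_iff_eq hpp Nat.prime_two).1 this)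
    have hsc2 : ∀ z ∈ R, ∀ c : F, (z : MM) = c • 1 → c * (RingEquiv.refl F) c = 1 := by
      intro z hz c hc
      have h4 := hRsc z hz c hc
      rw [hk4] at h4
      show c * c = 1
      rcases mul_self_eq_one_iff.1 (show (c * c) * (c * c) = 1 by linear_combination h4) with h | h
      · exact h
      · refine absurd ?_ hkq
        have hc0 : c ≠ 0 := fun h0 => by simp [h0] at h
        have hord : orderOf (Units.mk0 c hc0) = 4 := by
          refine orderOf_eq_prime_pow (p := 2) (n := 1) ?_ (Units.ext (by simpa using h4))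
          intro h'
          have h'' : c * c = 1 := by simpa [pow_two] using congrArg Units.val h'
          exact h2 (by linear_combination h - h'')
        rw [hk4, ← hord, ← hq, ← Nat.card_eq_fintype_card, ← Nat.card_units]
        exact orderOf_dvd_natCard _
    have hneven : Even n := (even_iff_two_dvd).2 (hr2 ▸ hrn)
    have h4n : 4 ≤ n := by obtain ⟨i, hi⟩ := hneven; omega
    have hodd : Odd (Fintype.card F) := by
      rw [hq]; exact (hpp.odd_of_ne_two hp2).pow
    refine hgeo ?_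
    rcases le_classical hn' hRtop h2 hRab hRn (RingEquiv.refl F) (fun a => rfl) hsc2 with
      ⟨Q, hQ', h⟩ | ⟨f, hf, h⟩ | ⟨s, f, hf, h⟩
    · exact ⟨_, Or.inr (Or.inr (Or.inr (Or.inr (Or.inr (Or.inr (Or.inr (Or.inr (Or.inr (Or.inr (Or.inr
        ⟨Q, hQ', hodd, hn, rfl⟩)))))))))), h⟩
    · exact ⟨_, Or.inr (Or.inr (Or.inr (Or.inr (Or.inr (Or.inr (Or.inr (Or.inr (Or.inr (Or.inl
        ⟨f, hf, hneven, h4n, rfl⟩))))))))), h⟩
    · exact ⟨_, Or.inr (Or.inr (Or.inr (Or.inr (Or.inr (Or.inr (Or.inr (Or.inr (Or.inr (Or.inr (Or.inl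
        ⟨s, f, hf, hn, rfl⟩)))))))))), h⟩
  -- powers fixing the roots of unity
  have hfrob : ∀ d : ℕ, 1 ≤ d → d < e → ∃ x : F, iterateFrobenius F p d x ≠ x := by
    intro d hd1 hd
    by_contra hcon
    push Not at hcon
    have hpk : 1 < p ^ d := Nat.one_lt_pow (by omega) hpp.one_lt
    have h1 : ∀ x : Fˣ, x ^ (p ^ d - 1) = 1 := fun x => by
      have := hcon (x : F)
      rw [iterateFrobenius_def] at this
      apply Units.ext
      rw [Units.val_pow_eq_pow_val, Units.val_one]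
      refine mul_left_cancel₀ x.ne_zero ?_
      rw [← pow_succ', show p ^ d - 1 + 1 = p ^ d by omega, this, mul_one]
    have hlt : p ^ d < Fintype.card F := by rw [hq]; exact Nat.pow_lt_pow_right hpp.one_lt hd
    have := Nat.le_of_dvd (by omega) ((FiniteField.forall_pow_eq_one_iff F _).1 h1)
    omega
  by_cases hmin' : ∃ d : ℕ, 0 < d ∧ d < e ∧ k ∣ p ^ d - 1
  · obtain ⟨d, hd0, hd, hkd⟩ := hmin'
    let F₁ : Subfield F := (iterateFrobenius F p d).eqLocusField (RingHom.id F)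
    have hF₁ : F₁ ≠ ⊤ := fun h => by
      obtain ⟨x, hx⟩ := hfrob d hd0 hd
      exact hx (h.symm ▸ Subfield.mem_top x : x ∈ F₁)
    have hreal := realisable hn' hRtop hRab F₁ fun z hz c hc => by
      show iterateFrobenius F p d c = c
      obtain ⟨i, hi⟩ := hkd
      rw [iterateFrobenius_def, ← Nat.sub_add_cancel (Nat.one_le_pow d p hpp.pos), hi, pow_succ, pow_mul,
        hRsc z hz c hc, one_pow, one_mul]
    obtain ⟨F₂, s, B, hs, hcs, -, hHB⟩ := SLTwoPrime.exists_subfield hn' hRtop hRn hF₁ hreal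
    exact hgeo ⟨_, Or.inr (Or.inr (Or.inr (Or.inr (Or.inr (Or.inr (Or.inl ⟨F₂, s, B, hs, hcs, rfl⟩)))))), hHB⟩
  push Not at hmin'
  have hodd_cases : (r = 2 ∧ k = 4) ∨ (Odd r ∧ k = r) := by
    rcases hr.eq_two_or_odd' with h | h
    · exact Or.inl ⟨h, by rw [hk, h]; rfl⟩
    · exact Or.inr ⟨h, by rw [hk, (Nat.coprime_two_left.2 h : Nat.gcd 2 r = 1), mul_one]⟩
  rcases Nat.even_or_odd (e : ℕ) with ⟨h, heh⟩ | heodd
  · -- a unitary form
    have hh0 : 0 < h := by have := e.pos; omega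
    have hnd : ¬ k ∣ p ^ h - 1 := hmin' h hh0 (by omega)
    have h1 : 1 ≤ p ^ h := Nat.one_le_pow _ _ hpp.pos
    have hfact : p ^ (e : ℕ) - 1 = (p ^ h - 1) * (p ^ h + 1) := by
      rw [heh, pow_add]
      zify [h1, show 1 ≤ p ^ h * p ^ h from Nat.one_le_iff_ne_zero.2 (by positivity)]
      ring
    have hplus : k ∣ p ^ h + 1 := by
      rcases hodd_cases with ⟨hr2, hk4⟩ | ⟨-, hkr⟩
      · rw [hk4] at hnd ⊢
        have hp2 : p % 2 = 1 := (hpp.eq_two_or_odd).resolve_left fun h => hrp (hr2.trans h.symm)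
        have : (p ^ h) % 2 = 1 := by rw [Nat.pow_mod, hp2, one_pow, Nat.one_mod]
        omega
      · rw [hkr] at hnd hkq ⊢
        rw [hfact] at hkq
        exact (hr.dvd_mul.1 hkq).resolve_left hnd
    have hinv : ∀ a : F, iterateFrobenius F p h (iterateFrobenius F p h a) = a := fun a => by
      rw [← iterateFrobenius_add_apply, iterateFrobenius_def, ← heh, ← hq]
      exact FiniteField.pow_card a
    refine hgeo (hclassical { (iterateFrobenius F p h) with
      invFun := iterateFrobenius F p h, left_inv := hinv, right_inv := hinv } hinv ?_ fun c hc => ?_)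
    · intro hall
      obtain ⟨x, hx⟩ := hfrob h hh0 (by omega)
      exact hx (hall x)
    · show c * iterateFrobenius F p h c = 1
      obtain ⟨i, hi⟩ := hplus
      rw [iterateFrobenius_def, ← pow_succ', hi, pow_mul, hc, one_pow]
  -- class six
  have hqk : k ∣ Nat.card Fˣ := by rwa [Nat.card_units, Nat.card_eq_fintype_card, hq]
  have hscR : ∀ u : Fˣ, u ^ k = 1 → sc u ∈ R := fun u hu =>
    ⟨Subgroup.mem_sup_right (hscmem u), by rw [← map_pow, hu, map_one]⟩
  have hcentre : Subgroup.center R = (ZZ).subgroupOf R := by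
    ext z
    rw [Subgroup.mem_center_iff, Subgroup.mem_subgroupOf]
    refine ⟨fun h => ?_, fun h y => Subtype.ext (hcen _ h y).symm⟩
    obtain ⟨c, hc⟩ := scalar_of_commute hRtop (M := ((z : GLn) : MM)) fun y hy =>
      (congrArg (fun m : R => ((m : GLn) : MM)) (h ⟨y, hy⟩)).symm
    exact mem_scalars_of_val hc
  have hcardZ : Nat.card ((ZZ).subgroupOf R) = k := by
    let φ : (powMonoidHom k : Fˣ →* Fˣ).ker → (ZZ).subgroupOf R := fun u =>
      ⟨⟨sc u, hscR u u.2⟩, Subgroup.mem_subgroupOf.2 (hscmem _)⟩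
    rw [← Nat.card_eq_of_bijective φ ⟨fun u v h => Subtype.ext (hscinj (congrArg Subtype.val (congrArg Subtype.val h))),
      fun z => ?_⟩, IsCyclic.card_powMonoidHom_ker, Nat.gcd_eq_right hqk]
    obtain ⟨u, hu⟩ := Subgroup.mem_subgroupOf.1 z.2
    have hu' : sc u = (z : R) := hu
    refine ⟨⟨u, hscinj ?_⟩, Subtype.ext (Subtype.ext hu')⟩
    show sc (u ^ k) = sc 1
    rw [map_pow, hu', map_one]
    exact (z : R).2.2
  obtain ⟨b', hb'⟩ := exists_rep_basis hRtop hRab
  haveI : Fintype (R ⧸ (ZZ).subgroupOf R) := Fintype.ofFinite _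
  have hcardR' : Nat.card (R ⧸ (ZZ).subgroupOf R) = r ^ (2 * m) := by
    have := (Module.finrank_eq_card_basis b').symm
    rw [Module.finrank_matrix, Fintype.card_fin, Module.finrank_self, mul_one] at this
    rw [Nat.card_eq_fintype_card, this, hnm, two_mul, pow_add]
  have hcardR : Nat.card R = k * r ^ (2 * m) := by
    rw [Subgroup.card_eq_card_quotient_mul_card_subgroup ((ZZ).subgroupOf R), hcardR', hcardZ, mul_comm]
  have hpG : IsPGroup r R := by
    haveI := Fact.mk hr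
    rcases hodd_cases with ⟨hr2, hk4⟩ | ⟨-, hkr⟩
    · exact IsPGroup.of_card (n := 2 + 2 * m) (by rw [hcardR, hk4, pow_add, hr2]; norm_num)
    · exact IsPGroup.of_card (n := 1 + 2 * m) (by rw [hcardR, hkr, pow_add, pow_one])
  have hexp : Monoid.exponent R = k := by
    refine Nat.dvd_antisymm (Monoid.exponent_dvd_of_forall_pow_eq_one fun g => Subtype.ext (by simpa using g.2.2)) ?_
    obtain ⟨u, hu⟩ := IsCyclic.exists_generator (α := Fˣ)
    obtain ⟨i, hi⟩ := hqk
    have hord : orderOf (u ^ i) = k := by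
      have ho := orderOf_eq_card_of_forall_mem_zpowers hu
      have hi0 : i ≠ 0 := fun h0 => by
        rw [h0, mul_zero] at hi; exact Nat.card_pos.ne' hi
      rw [orderOf_pow_of_dvd hi0 (by rw [ho, hi]; exact dvd_mul_left _ _), ho, hi,
        Nat.mul_div_cancel _ (Nat.pos_of_ne_zero hi0)]
    have hv : (u ^ i) ^ k = 1 := by rw [← hord]; exact pow_orderOf_eq_one _
    have h2 := Monoid.order_dvd_exponent (⟨sc (u ^ i), hscR _ hv⟩ : R)
    rwa [← Subgroup.orderOf_coe, orderOf_injective sc hscinj, hord] at h2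
  have hchar : ∀ A : Subgroup R, A.Characteristic → IsMulCommutative A → IsCyclic A := by
    intro A hA hAc
    set A' := A.map R.subtype with hA'
    have hinv : ∀ g ∈ H, ∀ x ∈ A', g * x * g⁻¹ ∈ A' := by
      rintro g hg _ ⟨a, ha, rfl⟩
      let α : R ≃* R :=
        { toFun := fun r => ⟨g * r * g⁻¹, hRn g hg r r.2⟩
          invFun := fun r => ⟨g⁻¹ * r * g, by simpa using hRn g⁻¹ (inv_mem hg) r r.2⟩
          left_inv := fun r => Subtype.ext (by simp [mul_assoc])
          right_inv := fun r => Subtype.ext (by simp [mul_assoc])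
          map_mul' := fun r s => Subtype.ext (by simp [mul_assoc]) }
      exact ⟨α a, (Subgroup.characteristic_iff_map_eq.1 hA α).le ⟨a, ha, rfl⟩, rfl⟩
    have hAcomm : ∀ x ∈ A', ∀ y ∈ A', x * y = y * x := by
      rintro _ ⟨a, ha, rfl⟩ _ ⟨c, hc, rfl⟩
      exact congrArg (fun m : A => ((m : R) : GLn)) (hAc.is_comm.comm ⟨a, ha⟩ ⟨c, hc⟩)
    have hsc' : A' ≤ ZZ := by
      by_contra hns'
      let M : Subgroup GLn := (A' ⊔ ZZ) ⊓ N
      have hMn : ∀ g ∈ H, ∀ x ∈ M, g * x * g⁻¹ ∈ M := fun g hg x hx => by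
        refine ⟨?_, hnorm g hg x hx.2⟩
        obtain ⟨a, ha, z, hz, rfl⟩ := Subgroup.mem_sup_of_normal_right.1 hx.1
        rw [show g * (a * z) * g⁻¹ = (g * a * g⁻¹) * (g * z * g⁻¹) by group, hconjsc z hz]
        exact mul_mem (Subgroup.mem_sup_left (hinv g hg a ha)) (Subgroup.mem_sup_right hz)
      have hMns : ¬ M ≤ ZZ := fun hle => hns' fun a ha => by
        have haR : a ∈ N ⊔ ZZ := by obtain ⟨a', -, rfl⟩ := ha; exact (a' : R).2.1
        obtain ⟨x, hx, z, hz, hxz⟩ := Subgroup.mem_sup_of_normal_right.1 haR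
        have hxM : x ∈ M := ⟨by
          rw [show x = a * z⁻¹ by rw [← hxz, mul_inv_cancel_right]]
          exact mul_mem (Subgroup.mem_sup_left ha) (Subgroup.mem_sup_right (inv_mem hz)), hx⟩
        rw [← hxz]; exact mul_mem (hle hxM) hz
      have hN := hmin M inf_le_right hMn hMns
      refine hns fun x hx => ?_
      obtain ⟨c, hc⟩ := scalar_of_commute hNtop (M := (x : MM)) fun y hy => by
        have hsup : ∀ w ∈ N, w ∈ A' ⊔ ZZ := fun w hw =>
          (sup_le inf_le_left (inf_le_left.trans le_sup_right) : M ⊔ ZZ ⊓ H ≤ A' ⊔ ZZ) (hN.ge hw)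
        obtain ⟨a, ha, s, hs, rfl⟩ := Subgroup.mem_sup_of_normal_right.1 (hsup x hx)
        obtain ⟨c, hc, t, ht, rfl⟩ := Subgroup.mem_sup_of_normal_right.1 (hsup y hy)
        rw [← Units.val_mul, ← Units.val_mul]
        congr 1
        calc a * s * (c * t) = a * (s * c) * t := by group
          _ = a * (c * s) * t := by rw [hcen s hs c]
          _ = (a * c) * (s * t) := by group
          _ = (c * a) * (t * s) := by rw [hAcomm a ha c hc, hcen s hs t]
          _ = c * (a * t) * s := by group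
          _ = c * (t * a) * s := by rw [hcen t ht a]
          _ = _ := by group
      exact mem_scalars_of_val hc
    let ev : A →* F :=
      { toFun := fun a => ((a : R) : GLn).val ⟨0, hn'⟩ ⟨0, hn'⟩
        map_one' := by simp
        map_mul' := fun a b => by
          obtain ⟨c, hc⟩ := (mem_scalars_iff _).1 (hsc' ⟨a, a.2, rfl⟩)
          obtain ⟨d, hd⟩ := (mem_scalars_iff _).1 (hsc' ⟨b, b.2, rfl⟩)
          simp only [Subgroup.coe_mul, Units.val_mul]
          rw [show ((a : R) : GLn).val = (c : F) • (1 : MM) from hc,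
            show ((b : R) : GLn).val = (d : F) • (1 : MM) from hd]
          simp [mul_comm] }
    refine isCyclic_of_subgroup_isDomain ev fun a b hab => ?_
    obtain ⟨c, hc⟩ := (mem_scalars_iff _).1 (hsc' ⟨a, a.2, rfl⟩)
    obtain ⟨d, hd⟩ := (mem_scalars_iff _).1 (hsc' ⟨b, b.2, rfl⟩)
    have hc' : ((a : R) : GLn).val = (c : F) • (1 : MM) := hc
    have hd' : ((b : R) : GLn).val = (d : F) • (1 : MM) := hd
    have hcd : (c : F) = d := by simpa [ev, hc', hd'] using hab
    exact Subtype.ext (Subtype.ext (Units.ext (by rw [hc', hd', hcd])))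
  have hcc : Nat.card (Subgroup.center R) = k := by rw [hcentre, hcardZ]
  have hdata : IsLinearSymplecticTypeData r R := by
    refine ⟨⟨hr, hpG, hchar, hexp⟩, absIrred_of_top hRtop, p, e, hrp, ?_, ?_⟩
    · rw [hcc]; exact ⟨hpp, hp, hq, hkq, hmin'⟩
    · rcases hodd_cases with ⟨hr2, hk4⟩ | ⟨hro, hkr⟩
      · refine Or.inr (Or.inl ⟨hr2, ?_, by rw [hcc, hk4], ?_, m, ?_⟩)
        · by_contra hne
          have he3 : 2 < (e : ℕ) := by obtain ⟨i, hi⟩ := heodd; omega
          refine hmin' 2 (by norm_num) he3 ?_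
          rw [hk4]
          have hp2 : p % 2 = 1 := (hpp.eq_two_or_odd).resolve_left fun h => hrp (hr2.trans h.symm)
          have : p ^ 2 % 4 = 1 := by
            rw [Nat.pow_mod]
            rcases (show p % 4 = 1 ∨ p % 4 = 3 by omega) with h | h <;> rw [h]
          omega
        · rw [Fintype.card_fin]
          obtain ⟨i, hi⟩ := (hr2 ▸ hrn : 2 ∣ n)
          omega
        · rw [hcardR, hk4, hr2, pow_add]; norm_num
      · exact Or.inl ⟨hro, heodd, by rw [hcc, hkr], m, hm1, by rw [hcardR, hkr, pow_add, pow_one]⟩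
  exact hgeo ⟨_, Or.inr (Or.inr (Or.inr (Or.inr (Or.inr (Or.inr (Or.inr (Or.inl ⟨r, R, hdata, rfl⟩))))))),
    fun g hg => mem_normalizer_of_conj (hRn g hg)⟩

end Cfsg.Agent.Lib.LinearAny
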