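import Cfsg.Prelude.Def_GeometricClasses

/-!
# Subgroup structure of SL_n, any n ≥ 3: shared definitions
-/

set_option autoImplicit false

namespace Cfsg.Agent.Lib.LinearAny

open Cfsg Cfsg.Geo

variable {F : Type*} [Field F] {n : ℕ}

/-- `H` lies in a member of one of the eight geometric classes. -/
def InGeo [Fintype F] (H : Subgroup (GL (Fin n) F)) : Prop := ∃ M, InLinearClass n F M ∧ H ≤ M

/-- A family of at least two pairwise commuting perfect normal factors permuted by `H` and generating an absolutely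
irreducible group. -/
structure FactorFamily (H : Subgroup (GL (Fin n) F)) (t : ℕ) (D : Fin t → Subgroup (GL (Fin n) F)) : Prop where
  two_le : 2 ≤ t
  perfect : ∀ i, ⁅D i, D i⁆ = D i
  nonscalar : ∀ i, ¬ D i ≤ scalars (Fin n) F
  comm : ∀ i j, i ≠ j → ∀ x ∈ D i, ∀ y ∈ D j, x * y = y * x
  inj : Function.Injective D
  perm : ∀ h ∈ H, ∃ σ : Equiv.Perm (Fin t), ∀ i, (D i).map (MulAut.conj h).toMonoidHom = D (σ i)
  trans : ∀ i j, ∃ h ∈ H, (D i).map (MulAut.conj h).toMonoidHom = D j
  absIrred : ActsAbsolutelyIrreducibly (matrixSet (⨆ i, D i))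

end Cfsg.Agent.Lib.LinearAny
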