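import Cfsg.Agent.Lib.LinearAny.Defs
import Cfsg.Agent.Lib.SLTwoPrime.Core
import Cfsg.Agent.Lib.LinearMax.ClassTwo

/-!
# A permuted family of commuting factors gives a tensor wreath product
-/

set_option autoImplicit false
set_option linter.unusedSectionVars false
set_option maxHeartbeats 1600000

namespace Cfsg.Agent.Lib.LinearAny

open Cfsg Cfsg.Geo Matrix SLTwoPrime
open scoped MatrixGroups

variable {F : Type*} [Field F] {t d : ℕ}

local notation "Md" => Matrix (Fin d) (Fin d) F
local notation "Mt" => Matrix (Fin t → Fin d) (Fin t → Fin d) F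

/-- a pure tensor -/
def ptens (f : Fin t → Md) : Mt := Matrix.of fun x y => ∏ i, f i (x i) (y i)

lemma ptens_mul (f g : Fin t → Md) : ptens f * ptens g = ptens (f * g) := by
  ext x y
  simp only [ptens, Matrix.mul_apply, Matrix.of_apply, Pi.mul_apply, ← Finset.prod_mul_distrib]
  exact (Fintype.prod_sum (fun i j => f i (x i) j * g i j (y i))).symm

lemma ptens_one : ptens (1 : Fin t → Md) = 1 := by
  ext x y
  simp only [ptens, Matrix.of_apply, Pi.one_apply, Matrix.one_apply]
  by_cases h : x = y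
  · simp [h]
  · obtain ⟨i, hi⟩ := Function.ne_iff.1 h
    rw [if_neg h]
    exact Finset.prod_eq_zero (Finset.mem_univ i) (if_neg hi)

lemma ptens_single (i : Fin t) (a : Md) (x y : Fin t → Fin d) :
    ptens (Pi.mulSingle i a) x y = if x = Function.update y i (x i) then a (x i) (y i) else 0 := by
  simp only [ptens, Matrix.of_apply]
  rw [← Finset.mul_prod_erase _ _ (Finset.mem_univ i), Pi.mulSingle_eq_same]
  split_ifs with h
  · rw [Finset.prod_eq_one fun j hj => ?_, mul_one]
    have hj' := Finset.ne_of_mem_erase hj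
    rw [Pi.mulSingle_eq_of_ne hj']
    rw [show x j = y j by rw [h, Function.update_of_ne hj'], Matrix.one_apply_eq]
  · obtain ⟨j, hj⟩ := Function.ne_iff.1 h
    have hji : j ≠ i := by rintro rfl; simp at hj
    rw [Function.update_of_ne hji] at hj
    rw [Finset.prod_eq_zero (Finset.mem_erase.2 ⟨hji, Finset.mem_univ j⟩), mul_zero]
    rw [Pi.mulSingle_eq_of_ne hji, Matrix.one_apply_ne hj]

/-- a pure tensor of invertible matrices -/
def ptensU (gs : Fin t → GL (Fin d) F) : GL (Fin t → Fin d) F where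
  val := ptens fun i => (gs i : Md)
  inv := ptens fun i => ((gs i)⁻¹ : GL (Fin d) F)
  val_inv := by
    rw [ptens_mul]
    exact (congrArg ptens (funext fun i => by simp)).trans ptens_one
  inv_val := by
    rw [ptens_mul]
    exact (congrArg ptens (funext fun i => by simp)).trans ptens_one

/-- the matrix of a permutation of the factors -/
def pmat (σ : Equiv.Perm (Fin t)) : Mt := Matrix.of fun x y => if y = x ∘ σ then 1 else 0

lemma pmat_mul_apply (σ : Equiv.Perm (Fin t)) (M : Mt) (x y : Fin t → Fin d) :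
    (pmat σ * M : Mt) x y = M (x ∘ σ) y := by
  simp [pmat, Matrix.mul_apply, ite_mul]

lemma mul_pmat_symm_apply (σ : Equiv.Perm (Fin t)) (M : Mt) (x y : Fin t → Fin d) :
    (M * pmat σ.symm : Mt) x y = M x (y ∘ σ) := by
  have h : ∀ z : Fin t → Fin d, y = z ∘ σ.symm ↔ z = y ∘ σ := fun z =>
    ⟨fun h => by subst h; funext k; simp, fun h => by subst h; funext k; simp⟩
  simp [pmat, Matrix.mul_apply, h]

lemma pmat_mul_symm (σ : Equiv.Perm (Fin t)) : (pmat σ : Mt) * pmat σ.symm = 1 := by
  ext x y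
  rw [pmat_mul_apply]
  simp only [pmat, Matrix.of_apply, Matrix.one_apply]
  congr 1
  exact propext ⟨fun h => by subst h; funext k; simp, fun h => by subst h; funext k; simp⟩

/-- a permutation of the factors -/
def pmatU (σ : Equiv.Perm (Fin t)) : GL (Fin t → Fin d) F where
  val := pmat σ
  inv := pmat σ.symm
  val_inv := pmat_mul_symm σ
  inv_val := by simpa using pmat_mul_symm (F := F) (d := d) σ.symm

lemma pmat_conj (σ : Equiv.Perm (Fin t)) (i : Fin t) (a : Md) :
    (pmat σ : Mt) * ptens (Pi.mulSingle i a) * pmat σ.symm = ptens (Pi.mulSingle (σ i) a) := by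
  ext x y
  rw [mul_pmat_symm_apply, pmat_mul_apply]
  simp only [ptens, Matrix.of_apply, Function.comp_apply]
  rw [← Equiv.prod_comp σ fun j => (Pi.mulSingle (σ i) a : Fin t → Md) j (x j) (y j)]
  refine Finset.prod_congr rfl fun k _ => ?_
  rcases eq_or_ne k i with rfl | hk
  · rw [Pi.mulSingle_eq_same, Pi.mulSingle_eq_same]
  · rw [Pi.mulSingle_eq_of_ne hk, Pi.mulSingle_eq_of_ne fun h => hk (σ.injective h)]

variable {n : ℕ}

local notation "Mn" => Matrix (Fin n) (Fin n) F

/-- Commuting copies of a matrix algebra generate their tensor power. -/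
theorem exists_tensor_hom (hn : 0 < n) (hd : 0 < d) (φ : Fin t → Md →ₐ[F] Mn)
    (hc : ∀ i j, i ≠ j → ∀ a b, φ i a * φ j b = φ j b * φ i a)
    (hsc : ∀ M : Mn, (∀ i a, M * φ i a = φ i a * M) → ∃ c : F, M = c • 1) :
    ∃ Φ : Mt →ₐ[F] Mn, ∀ i a, Φ (ptens (Pi.mulSingle i a)) = φ i a := by
  classical
  haveI : Nonempty (Fin n) := ⟨⟨0, hn⟩⟩
  have hcc : ∀ (f g : Fin t → Md) (i j : Fin t), i ≠ j → Commute (φ i (f i)) (φ j (g j)) :=
    fun f g i j hij => hc i j hij _ _
  have hpw : ∀ (f : Fin t → Md) (s : Finset (Fin t)),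
      (s : Set (Fin t)).Pairwise (Function.onFun Commute fun i => φ i (f i)) :=
    fun f s i _ j _ hij => hcc f f i j hij
  let pp : (Fin t → Md) → Mn := fun f => Finset.univ.noncommProd (fun i => φ i (f i)) (hpw f _)
  have pp_mul : ∀ f g, pp f * pp g = pp (f * g) := by
    intro f g
    refine ((Finset.noncommProd_congr rfl (fun i _ => ?_) (hpw (f * g) _)).trans
      (Finset.noncommProd_mul_distrib (fun i => φ i (f i)) (fun i => φ i (g i)) (hpw f _) (hpw g _)
        (fun i _ j _ hij => hcc g f i j hij))).symm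
    simp
  have pp_split : ∀ (f : Fin t → Md) (i : Fin t), pp f = φ i (f i) *
      (Finset.univ.erase i).noncommProd (fun j => φ j (f j)) (hpw f _) :=
    fun f i => (Finset.mul_noncommProd_erase _ (Finset.mem_univ i) _ _).symm
  have pp_left : ∀ f i a, φ i a * pp f = pp (Function.update f i (a * f i)) := by
    intro f i a
    rw [pp_split f i, pp_split (Function.update f i (a * f i)) i, Function.update_self, map_mul, mul_assoc]
    congr 2
    exact Finset.noncommProd_congr rfl (fun j hj => by rw [Function.update_of_ne (Finset.ne_of_mem_erase hj)]) _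
  have pp_right : ∀ f i a, pp f * φ i a = pp (Function.update f i (f i * a)) := by
    intro f i a
    rw [pp_split f i, pp_split (Function.update f i (f i * a)) i, Function.update_self, map_mul, mul_assoc,
      mul_assoc]
    congr 1
    rw [← (Finset.noncommProd_commute (Finset.univ.erase i) (fun j => φ j (f j)) (hpw f _) (φ i a)
      (fun j hj => hc i j (Finset.ne_of_mem_erase hj).symm _ _)).eq]
    congr 1
    exact Finset.noncommProd_congr rfl (fun j hj => by rw [Function.update_of_ne (Finset.ne_of_mem_erase hj)]) _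
  have pp_zero : ∀ f i, f i = 0 → pp f = 0 := fun f i h => by rw [pp_split f i, h, map_zero, zero_mul]
  let Ψ : (Fin t → Fin d) → (Fin t → Fin d) → Mn := fun x y => pp fun i => Matrix.single (x i) (y i) 1
  have Ψ_mul : ∀ x y u v, Ψ x y * Ψ u v = if y = u then Ψ x v else 0 := by
    intro x y u v
    rw [show Ψ x y * Ψ u v = _ from pp_mul _ _]
    split_ifs with h
    · subst h
      exact congrArg pp (funext fun i => by simp)
    · obtain ⟨i, hi⟩ := Function.ne_iff.1 h
      exact pp_zero _ i (by simp [Matrix.single_mul_single_of_ne, hi])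
  have Ψ_left : ∀ i p q z, φ i (Matrix.single p q 1) * Ψ z z =
      if z i = q then Ψ (Function.update z i p) z else 0 := by
    intro i p q z
    rw [show φ i (Matrix.single p q 1) * Ψ z z = _ from pp_left _ _ _]
    split_ifs with h
    · subst h
      refine congrArg pp (funext fun j => ?_)
      rcases eq_or_ne j i with rfl | hj
      · simp
      · simp [Function.update_of_ne hj]
    · exact pp_zero _ i (by simp [Matrix.single_mul_single_of_ne, Ne.symm h])
  have Ψ_right : ∀ i p q z, Ψ z z * φ i (Matrix.single p q 1) =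
      if z i = p then Ψ z (Function.update z i q) else 0 := by
    intro i p q z
    rw [show Ψ z z * φ i (Matrix.single p q 1) = _ from pp_right _ _ _]
    split_ifs with h
    · subst h
      refine congrArg pp (funext fun j => ?_)
      rcases eq_or_ne j i with rfl | hj
      · simp
      · simp [Function.update_of_ne hj]
    · exact pp_zero _ i (by simp [Matrix.single_mul_single_of_ne, h])
  have Ψ_ne : ∀ z, Ψ z z ≠ 0 := by
    intro z
    suffices ∀ s : Finset (Fin t), s.noncommProd (fun i => φ i (Matrix.single (z i) (z i) 1))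
        (hpw (fun i => Matrix.single (z i) (z i) 1) s) ≠ 0 from this Finset.univ
    intro s
    induction s using Finset.induction_on with
    | empty => exact one_ne_zero
    | insert a s has ih =>
      intro h0
      replace h0 := (Finset.noncommProd_insert_of_notMem s a (fun i => φ i (Matrix.single (z i) (z i) 1))
        (hpw (fun i => Matrix.single (z i) (z i) 1) _) has).symm.trans h0
      apply ih
      set R := s.noncommProd (fun i => φ i (Matrix.single (z i) (z i) 1))
        (hpw (fun i => Matrix.single (z i) (z i) 1) s)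
      have hR : ∀ b, Commute (φ a b) R := fun b => Finset.noncommProd_commute _ _ _ _ fun i hi =>
        hc a i (fun e => has (e ▸ hi)) _ _
      have key : ∀ p, φ a (Matrix.single p p 1) * R = 0 := fun p => by
        rw [show Matrix.single p p (1 : F) =
            Matrix.single p (z a) 1 * Matrix.single (z a) (z a) 1 * Matrix.single (z a) p 1 by simp,
          map_mul, map_mul, mul_assoc, (hR _).eq, ← mul_assoc, mul_assoc (φ a _) (φ a _) R, h0, mul_zero, zero_mul]
      have h1 : (1 : Md) = ∑ p, Matrix.single p p 1 := by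
        ext i j
        simp [Matrix.one_apply, Matrix.sum_apply, Matrix.single_apply, ite_and]
      calc R = φ a 1 * R := by rw [map_one, one_mul]
        _ = 0 := by rw [h1, map_sum, Finset.sum_mul]; simp [key]
  let Φ₀ : Mt →ₗ[F] Mn :=
    { toFun := fun X => ∑ x, ∑ y, X x y • Ψ x y
      map_add' := fun X Y => by simp [add_smul, Finset.sum_add_distrib]
      map_smul' := fun c X => by simp [mul_smul, Finset.smul_sum] }
  have hΦmul : ∀ X Y, Φ₀ (X * Y) = Φ₀ X * Φ₀ Y := by
    intro X Y
    show ∑ x, ∑ v, (X * Y) x v • Ψ x v = (∑ x, ∑ y, X x y • Ψ x y) * (∑ u, ∑ v, Y u v • Ψ u v)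
    rw [Finset.sum_mul]
    refine Finset.sum_congr rfl fun x _ => ?_
    have key : ∀ y, X x y • Ψ x y * (∑ u, ∑ v, Y u v • Ψ u v) = ∑ v, (X x y * Y y v) • Ψ x v := by
      intro y
      simp only [Finset.mul_sum, smul_mul_smul_comm, Ψ_mul]
      rw [Finset.sum_eq_single y (fun b _ hb => by simp [Ne.symm hb]) (fun h => absurd (Finset.mem_univ y) h)]
      simp
    rw [Finset.sum_mul, Finset.sum_congr rfl fun y _ => key y, Finset.sum_comm]
    refine Finset.sum_congr rfl fun v _ => ?_
    rw [Matrix.mul_apply, Finset.sum_smul]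
  set E : Mn := ∑ z, Ψ z z with hE
  have hEcomm : ∀ i p q, E * φ i (Matrix.single p q 1) = φ i (Matrix.single p q 1) * E := by
    intro i p q
    rw [hE, Finset.sum_mul, Finset.mul_sum]
    simp only [Ψ_left, Ψ_right, ← Finset.sum_filter]
    refine Finset.sum_nbij' (fun z => Function.update z i q) (fun z => Function.update z i p) ?_ ?_ ?_ ?_ ?_
    · intro z hz; simp
    · intro z hz; simp
    · intro z hz
      simp at hz
      simp [Function.update_idem, ← hz]
    · intro z hz
      simp at hz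
      simp [Function.update_idem, ← hz]
    · intro z hz
      simp at hz
      simp [Function.update_idem, ← hz]
  have hφsum : ∀ i a, φ i a = ∑ p, ∑ q, a p q • φ i (Matrix.single p q 1) := by
    intro i a
    conv_lhs => rw [Matrix.matrix_eq_sum_single a]
    simp only [map_sum]
    refine Finset.sum_congr rfl fun p _ => Finset.sum_congr rfl fun q _ => ?_
    rw [← map_smul, Matrix.smul_single, smul_eq_mul, mul_one]
  have hE1 : E = 1 := by
    obtain ⟨c, hcE⟩ := hsc E fun i a => by
      simp only [hφsum i a, Finset.mul_sum, Finset.sum_mul, mul_smul_comm, smul_mul_assoc, hEcomm]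
    let z : Fin t → Fin d := fun _ => ⟨0, hd⟩
    have h : E * Ψ z z = Ψ z z := by
      rw [hE, Finset.sum_mul]
      simp [Ψ_mul]
    rw [hcE, smul_mul_assoc, one_mul] at h
    have : c = 1 := by
      by_contra hc1
      have h' : (c - 1) • Ψ z z = 0 := by rw [sub_smul, one_smul, h, sub_self]
      exact Ψ_ne z ((smul_eq_zero.1 h').resolve_left (sub_ne_zero.2 hc1))
    rw [hcE, this, one_smul]
  have hone : Φ₀ 1 = 1 := by
    rw [← hE1, hE]
    simp [Φ₀, Matrix.one_apply, ite_smul]
  refine ⟨AlgHom.ofLinearMap Φ₀ hone hΦmul, fun i a => ?_⟩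
  show Φ₀ _ = _
  conv_rhs => rw [← mul_one (φ i a), ← hE1, hE, Finset.mul_sum, hφsum i a]
  simp only [Φ₀, LinearMap.coe_mk, AddHom.coe_mk, Finset.sum_mul, smul_mul_assoc, Ψ_left, smul_ite, smul_zero,
    Finset.sum_ite_eq, Finset.mem_univ, if_true, ptens_single, ite_smul, zero_smul]
  rw [Finset.sum_comm]
  refine Finset.sum_congr rfl fun y _ => ?_
  rw [← Finset.sum_filter]
  refine Finset.sum_nbij' (fun x => x i) (fun p => Function.update y i p) ?_ ?_ ?_ ?_ ?_
  · intro x hx; simp
  · intro p hp; simp [Function.update_idem]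
  · intro x hx
    simp at hx
    exact hx.symm
  · intro p hp; simp
  · intro x hx
    simp at hx
    rw [← hx]

lemma matrixSet_map_conj (D : Subgroup (GL (Fin n) F)) (h : GL (Fin n) F) :
    adj (D.map (MulAut.conj h).toMonoidHom) = (adj D).map (cjA h).toAlgHom := by
  rw [AlgHom.map_adjoin]
  refine congrArg (Algebra.adjoin F) ?_
  ext M
  constructor
  · rintro ⟨_, ⟨x, hx, rfl⟩, rfl⟩
    exact ⟨_, ⟨x, hx, rfl⟩, by simp⟩
  · rintro ⟨_, ⟨x, hx, rfl⟩, rfl⟩
    exact ⟨_, ⟨x, hx, rfl⟩, by simp⟩

/-- **The factor family.** -/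
theorem family_wreath [Fintype F] (hn : 0 < n) {H : Subgroup (GL (Fin n) F)} {t : ℕ}
    {D : Fin t → Subgroup (GL (Fin n) F)} (hD : FactorFamily H t D) :
    ∃ (d : ℕ) (e : Fin n ≃ (Fin t → Fin d)) (P : GL (Fin n) F), 2 ≤ d ∧ H ≤ tensorWreathSubgroup d t e P := by
  classical
  haveI : Nonempty (Fin n) := ⟨⟨0, hn⟩⟩
  set P := ⨆ i, D i with hP
  have hnormD : ∀ i, ∀ g ∈ P, ∀ x ∈ D i, g * x * g⁻¹ ∈ D i := by
    intro i g hg
    induction hg using Subgroup.iSup_induction' with
    | hp j g hg =>
      intro x hx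
      rcases eq_or_ne j i with rfl | hji
      · exact mul_mem (mul_mem hg hx) (inv_mem hg)
      · rwa [hD.comm j i hji g hg x hx, mul_inv_cancel_right]
    | h1 => intro x hx; simpa using hx
    | hmul a b _ _ iha ihb =>
      intro x hx
      have := iha _ (ihb x hx)
      rwa [show a * b * x * (a * b)⁻¹ = a * (b * x * b⁻¹) * a⁻¹ by group]
  have hscP : ∀ M : Matrix (Fin n) (Fin n) F, (∀ i, ∀ x ∈ D i, M * (x : Matrix (Fin n) (Fin n) F) = (x : Matrix (Fin n) (Fin n) F) * M) →
      ∃ c : F, M = c • 1 := by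
    intro M hM
    refine hD.absIrred.2 M ?_
    rintro _ ⟨g, hg, rfl⟩
    induction hg using Subgroup.iSup_induction' with
    | hp j g hg => exact hM j g hg
    | h1 => simp
    | hmul a b _ _ iha ihb =>
      simp only [Units.val_mul] at iha ihb ⊢
      rw [← mul_assoc, iha, mul_assoc, ihb, mul_assoc]
  have hcross : ∀ i j, i ≠ j → ∀ a ∈ adj (D i), ∀ b ∈ adj (D j), a * b = b * a := by
    intro i j hij a ha b hb
    refine SLTwoPrime.commute_adj (fun y hy => ?_) b hb
    refine (SLTwoPrime.commute_adj (fun x hx => ?_) a ha).symm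
    exact congrArg Units.val (hD.comm j i hij.symm y hy x hx)
  have hform : ∀ i, ∃ (d : ℕ) (φ : Matrix (Fin d) (Fin d) F →ₐ[F] Matrix (Fin n) (Fin n) F),
      0 < d ∧ φ.range = adj (D i) ∧ Function.Injective φ := by
    intro i
    refine matrix_form (H := P) hD.absIrred.1 (inv_adj (hnormD i)) fun z hz hzc => hscP z fun j x hx => ?_
    rcases eq_or_ne i j with rfl | hij
    · exact hzc _ (mem_adj hx)
    · exact hcross i j hij z hz _ (mem_adj hx)
  choose dd φ hd0 hrange hinj using hform
  have hrk : ∀ i, Module.finrank F (adj (D i)) = dd i * dd i := fun i => by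
    rw [← hrange i, ← (AlgEquiv.ofInjective (φ i) (hinj i)).toLinearEquiv.finrank_eq, Module.finrank_matrix,
      Fintype.card_fin, Module.finrank_self, mul_one]
  let i0 : Fin t := ⟨0, by have := hD.two_le; omega⟩
  set d := dd i0 with hd
  have hdd : ∀ i, dd i = d := by
    intro i
    obtain ⟨h, -, hh⟩ := hD.trans i0 i
    have e : Module.finrank F (adj (D i)) = Module.finrank F (adj (D i0)) := by
      rw [← hh, matrixSet_map_conj]
      exact (AlgEquiv.subalgebraMap (cjA h) (adj (D i0))).toLinearEquiv.finrank_eq.symm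
    rw [hrk, hrk] at e
    exact Nat.mul_self_inj.1 e
  have hform' : ∀ i, ∃ φ : Matrix (Fin d) (Fin d) F →ₐ[F] Matrix (Fin n) (Fin n) F,
      φ.range = adj (D i) ∧ Function.Injective φ := fun i => hdd i ▸ ⟨φ i, hrange i, hinj i⟩
  clear hrk hdd
  choose ψ hψr hψi using hform'
  have hmem : ∀ i a, ψ i a ∈ adj (D i) := fun i a => hψr i ▸ ⟨a, rfl⟩
  have hsc : ∀ M : Matrix (Fin n) (Fin n) F, (∀ i a, M * ψ i a = ψ i a * M) → ∃ c : F, M = c • 1 := by
    intro M hM
    refine hscP M fun i x hx => ?_
    obtain ⟨a, ha⟩ : (x : Matrix (Fin n) (Fin n) F) ∈ (ψ i).range := (hψr i).symm ▸ mem_adj hx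
    have := hM i a
    rw [show ψ i a = (x : Matrix (Fin n) (Fin n) F) from ha] at this
    exact this
  have h2 : 2 ≤ d := by
    by_contra hlt
    have h1 : d = 1 := by have := hd0 i0; omega
    refine hD.nonscalar i0 fun x hx => ?_
    obtain ⟨a, ha⟩ : (x : Matrix (Fin n) (Fin n) F) ∈ (ψ i0).range := (hψr i0).symm ▸ mem_adj hx
    haveI : Subsingleton (Fin d) := h1 ▸ inferInstance
    have hz : (0 : ℕ) < d := by omega
    refine SLTwoPrime.mem_scalars_of_val (c := a ⟨0, hz⟩ ⟨0, hz⟩) ?_
    rw [show (x : Matrix (Fin n) (Fin n) F) = ψ i0 a from ha.symm,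
      show a = a ⟨0, hz⟩ ⟨0, hz⟩ • (1 : Matrix (Fin d) (Fin d) F) by
        ext i j
        rw [Subsingleton.elim i ⟨0, hz⟩, Subsingleton.elim j ⟨0, hz⟩]
        simp, map_smul, map_one]
    simp
  obtain ⟨Φ, hΦ⟩ := exists_tensor_hom hn (by omega) ψ (fun i j hij a b => hcross i j hij _ (hmem i a) _ (hmem j b)) hsc
  haveI : Nonempty (Fin t → Fin d) := ⟨fun _ => ⟨0, by omega⟩⟩
  have hΦi : Function.Injective Φ := RingHom.injective Φ.toRingHom
  have hΦs : Function.Surjective Φ := by
    have htop : adj P ≤ Φ.range := by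
      refine Algebra.adjoin_le ?_
      rintro _ ⟨g, hg, rfl⟩
      induction hg using Subgroup.iSup_induction' with
      | hp j g hg =>
        obtain ⟨a, ha⟩ : (g : Matrix (Fin n) (Fin n) F) ∈ (ψ j).range := (hψr j).symm ▸ mem_adj hg
        exact ⟨_, (hΦ j a).trans ha⟩
      | h1 => exact one_mem _
      | hmul a b _ _ iha ihb => simpa using mul_mem iha ihb
    intro M
    refine htop (?_ : M ∈ adj P)
    have h := Algebra.span_le_adjoin F (matrixSet P)
    rw [LinearMax.span_eq_top hD.absIrred] at h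
    exact h Submodule.mem_top
  have hcard : Fintype.card (Fin n) = Fintype.card (Fin t → Fin d) := by
    have := (AlgEquiv.ofBijective Φ ⟨hΦi, hΦs⟩).toLinearEquiv.finrank_eq
    rw [Module.finrank_matrix, Module.finrank_matrix, Module.finrank_self, mul_one, mul_one] at this
    exact (Nat.mul_self_inj.1 this).symm
  let e : Fin n ≃ (Fin t → Fin d) := Fintype.equivOfCardEq hcard
  obtain ⟨Q, hQ⟩ := SLTwoPrime.exists_inner hn (Φ.comp (Matrix.reindexAlgEquiv F F e).toAlgHom)
  refine ⟨d, e, Q, h2, fun h hh => ?_⟩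
  let K : GL (Fin t → Fin d) F →* GL (Fin n) F :=
    (MulAut.conj Q).toMonoidHom.comp (glReindex e.symm).toMonoidHom
  have hK : ∀ X : GL (Fin t → Fin d) F, (K X : Matrix (Fin n) (Fin n) F) = Φ (X : Matrix _ _ F) := by
    intro X
    have := hQ (Matrix.reindex e.symm e.symm (X : Matrix _ _ F))
    simp only [AlgHom.comp_apply, AlgEquiv.coe_algHom, Matrix.reindexAlgEquiv_apply] at this
    rw [show Matrix.reindex e e (Matrix.reindex e.symm e.symm (X : Matrix _ _ F)) = (X : Matrix _ _ F) by
      ext; simp] at this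
    rw [this]
    rfl
  obtain ⟨σ, hσ⟩ := hD.perm h hh
  have hb : ∀ i, ∃ b : GL (Fin d) F, ∀ a, cjA h (ψ i a) =
      ψ (σ i) ((b : Matrix (Fin d) (Fin d) F) * a * ((b⁻¹ : GL (Fin d) F) : Matrix (Fin d) (Fin d) F)) := by
    intro i
    have hmap : ∀ a, cjA h (ψ i a) ∈ (ψ (σ i)).range := fun a => by
      rw [hψr, ← hσ i, matrixSet_map_conj]
      exact Subalgebra.mem_map.2 ⟨_, hmem i a, rfl⟩
    obtain ⟨b, hb⟩ := SLTwoPrime.exists_inner (by omega)
      ((AlgEquiv.ofInjective (ψ (σ i)) (hψi (σ i))).symm.toAlgHom.comp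
        (((cjA h).toAlgHom.comp (ψ i)).codRestrict _ hmap))
    refine ⟨b, fun a => ?_⟩
    rw [← hb a]
    simp only [AlgHom.comp_apply]
    exact (congrArg Subtype.val ((AlgEquiv.ofInjective (ψ (σ i)) (hψi (σ i))).apply_symm_apply
      (((cjA h).toAlgHom.comp (ψ i)).codRestrict _ hmap a))).symm
  choose b hb using hb
  set W : GL (Fin t → Fin d) F := ptensU (fun j => b (σ.symm j)) * pmatU σ with hW
  have hconj : ∀ i a, (W : Matrix _ _ F) * ptens (Pi.mulSingle i a) * ((W⁻¹ : GL (Fin t → Fin d) F) : Matrix _ _ F) =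
      ptens (Pi.mulSingle (σ i) ((b i : Matrix (Fin d) (Fin d) F) * a * ((b i)⁻¹ : GL (Fin d) F).val)) := by
    intro i a
    rw [hW, _root_.mul_inv_rev, Units.val_mul, Units.val_mul]
    show ptens _ * pmat σ * ptens _ * (pmat σ.symm * ptens _) = _
    rw [show ∀ A S T S' B : Matrix (Fin t → Fin d) (Fin t → Fin d) F, A * S * T * (S' * B) = A * (S * T * S') * B from fun A S T S' B => by
      simp only [mul_assoc], pmat_conj, ptens_mul, ptens_mul]
    refine congrArg ptens (funext fun j => ?_)
    rcases eq_or_ne j (σ i) with rfl | hj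
    · simp
    · simp [Pi.mulSingle_eq_of_ne hj]
  have hcomm : ∀ i a, ((K W)⁻¹ * h : GL (Fin n) F).val * ψ i a = ψ i a * ((K W)⁻¹ * h : GL (Fin n) F).val := by
    intro i a
    have key : cjA (K W) (ψ i a) = cjA h (ψ i a) := by
      rw [hb i a, ← hΦ, ← hΦ, cjA_apply, hK W, ← map_inv, hK, ← map_mul, ← map_mul, hconj]
    have := congrArg (fun M => ((K W)⁻¹ : GL (Fin n) F).val * M * h.val) key
    simp only [cjA_apply] at this
    simp only [Units.val_mul, mul_assoc, Units.inv_mul, mul_one] at this ⊢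
    rw [← mul_assoc ((K W)⁻¹ : GL (Fin n) F).val (K W).val, Units.inv_mul, one_mul] at this
    exact this.symm
  obtain ⟨c, hcz⟩ := hsc _ hcomm
  obtain ⟨u, hu⟩ := (mem_scalars_iff _).1 (SLTwoPrime.mem_scalars_of_val hcz)
  let z : GL (Fin d) F := Units.map (algebraMap F (Matrix (Fin d) (Fin d) F)).toMonoidHom u
  let Z : GL (Fin t → Fin d) F := ptensU (Pi.mulSingle i0 z)
  have hZ : (K W)⁻¹ * h = K Z := by
    refine Units.ext ?_
    rw [hu, hK]
    show _ = Φ (ptens fun j => ((Pi.mulSingle i0 z : Fin t → GL (Fin d) F) j : Matrix _ _ F))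
    rw [show (fun j => ((Pi.mulSingle i0 z : Fin t → GL (Fin d) F) j : Matrix (Fin d) (Fin d) F)) =
      Pi.mulSingle i0 (z : Matrix (Fin d) (Fin d) F) from funext fun j => by
        rcases eq_or_ne j i0 with rfl | hj <;> simp [*], hΦ]
    simp [z, Algebra.algebraMap_eq_smul_one]
  rw [inv_mul_eq_iff_eq_mul.1 hZ, ← map_mul]
  refine ⟨_, ⟨W * Z, mul_mem (mul_mem ?_ ?_) ?_, rfl⟩, rfl⟩
  · exact Subgroup.subset_closure (Or.inl ⟨_, fun x y => rfl⟩)
  · exact Subgroup.subset_closure (Or.inr ⟨σ, fun x y => rfl⟩)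
  · exact Subgroup.subset_closure (Or.inl ⟨_, fun x y => rfl⟩)

end Cfsg.Agent.Lib.LinearAny
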