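import Cfsg.Agent.Lib.LinearAny.Defs

/-!
# A tensor power of a 2-dimensional space carries an invariant form up to scalars
-/

set_option autoImplicit false
set_option linter.unusedVariables false

namespace Cfsg.Agent.Lib.LinearAny

open Cfsg Cfsg.Geo
open scoped Matrix

variable {F : Type*} [Field F] {n t : ℕ}

namespace WreathForm

/-- The alternating 2 x 2 matrix. -/
def altTwo (a b : Fin 2) : F := if a = b then 0 else if a = 0 then 1 else -1

/-- Its tensor power. -/
def formMat (t : ℕ) : Matrix (Fin t → Fin 2) (Fin t → Fin 2) F :=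
  Matrix.of fun x y => ∏ i, altTwo (x i) (y i)

/-- The opposite index. -/
def opp (x : Fin t → Fin 2) : Fin t → Fin 2 := fun i => x i + 1

/-- The form of the tensor power. -/
def powForm (u v : (Fin t → Fin 2) → F) : F := u ⬝ᵥ formMat t *ᵥ v

theorem opp_opp (x : Fin t → Fin 2) : opp (opp x) = x := by
  funext i
  have : ∀ a : Fin 2, a + 1 + 1 = a := by decide
  exact this _

theorem altTwo_swap (a b : Fin 2) : altTwo (F := F) b a = (-1) * altTwo a b := by
  fin_cases a <;> fin_cases b <;> simp [altTwo]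

theorem formMat_swap (x y : Fin t → Fin 2) : formMat (F := F) t y x = (-1) ^ t * formMat t x y := by
  simp only [formMat, Matrix.of_apply]
  rw [Finset.prod_congr rfl fun i _ => altTwo_swap (x i) (y i), Finset.prod_mul_distrib, Finset.prod_const,
    Finset.card_univ, Fintype.card_fin]

theorem formMat_eq_zero {x y : Fin t → Fin 2} (h : y ≠ opp x) : formMat (F := F) t x y = 0 := by
  obtain ⟨i, hi⟩ := Function.ne_iff.1 h
  simp only [formMat, Matrix.of_apply]
  refine Finset.prod_eq_zero (Finset.mem_univ i) ?_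
  have : ∀ a b : Fin 2, b ≠ a + 1 → a = b := by decide
  simp [altTwo, this _ _ hi]

theorem formMat_opp_ne_zero (x : Fin t → Fin 2) : formMat (F := F) t x (opp x) ≠ 0 := by
  simp only [formMat, Matrix.of_apply, opp]
  refine Finset.prod_ne_zero_iff.2 fun i _ => ?_
  generalize x i = a
  fin_cases a <;> simp [altTwo]

theorem powForm_eq (u v : (Fin t → Fin 2) → F) :
    powForm u v = ∑ x, u x * (formMat t x (opp x) * v (opp x)) := by
  refine Finset.sum_congr rfl fun x _ => ?_
  congr 1
  exact Finset.sum_eq_single (opp x) (fun y _ hy => show formMat t x y * v y = 0 by rw [formMat_eq_zero hy, zero_mul])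
    (fun h => absurd (Finset.mem_univ _) h)

theorem powForm_swap (u v : (Fin t → Fin 2) → F) : powForm v u = (-1) ^ t * powForm u v := by
  rw [powForm_eq, powForm_eq, Finset.mul_sum]
  refine Fintype.sum_equiv ⟨opp, opp, opp_opp, opp_opp⟩ _ _ fun x => ?_
  simp only [Equiv.coe_fn_mk, opp_opp]
  rw [formMat_swap x (opp x)]
  have h : ((-1 : F) ^ t) * (-1) ^ t = 1 := by rw [← mul_pow]; simp
  linear_combination (-(v x) * formMat t x (opp x) * u (opp x)) * h

theorem powForm_self (ht : 1 ≤ t) (hs : (-1 : F) ^ t = -1) (v : (Fin t → Fin 2) → F) : powForm v v = 0 := by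
  rw [powForm_eq]
  refine Finset.sum_involution (fun x _ => opp x) (fun x _ => ?_) (fun x _ _ hx => ?_)
    (fun x _ => Finset.mem_univ _) (fun x _ => opp_opp x)
  · simp only [opp_opp]
    rw [formMat_swap x (opp x), hs]
    ring
  · have h0 := congrFun hx ⟨0, ht⟩
    have : ∀ a : Fin 2, a + 1 ≠ a := by decide
    exact this _ h0

theorem powForm_nondeg {v : (Fin t → Fin 2) → F} (hv : v ≠ 0) : ∃ u, powForm u v ≠ 0 := by
  obtain ⟨y, hy⟩ := Function.ne_iff.1 hv
  refine ⟨Pi.single (opp y) 1, ?_⟩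
  rw [powForm_eq, Finset.sum_eq_single (opp y) (fun x _ hx => by simp [hx])
    (fun h => absurd (Finset.mem_univ _) h), Pi.single_eq_same, one_mul, opp_opp]
  refine mul_ne_zero ?_ hy
  have := formMat_opp_ne_zero (F := F) (opp y)
  rwa [opp_opp] at this

theorem pure_mem {g : GL (Fin t → Fin 2) F} (hg : IsPureTensor 2 t g) :
    g ∈ similarityGroup (powForm (F := F) (t := t)) := by
  obtain ⟨gs, hgs⟩ := hg
  refine ⟨∏ i, Matrix.GeneralLinearGroup.det (gs i), fun u v => ?_⟩
  have key : ∀ (A : Matrix (Fin 2) (Fin 2) F) (a b : Fin 2),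
      (∑ d, (∑ c, A c a * altTwo c d) * A d b) = A.det * altTwo a b := by
    intro A a b
    fin_cases a <;> fin_cases b <;> simp [altTwo, Fin.sum_univ_two, Matrix.det_fin_two] <;> ring
  have hM : (g : Matrix (Fin t → Fin 2) (Fin t → Fin 2) F)ᵀ * formMat t * (g : Matrix (Fin t → Fin 2) (Fin t → Fin 2) F)
      = (((∏ i, Matrix.GeneralLinearGroup.det (gs i) : Fˣ) : F)) • formMat t := by
    ext x y
    simp only [Matrix.mul_apply, Matrix.transpose_apply, Matrix.smul_apply, smul_eq_mul, hgs, formMat,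
      Matrix.of_apply, Units.coe_prod, ← Finset.prod_mul_distrib]
    calc _ = ∑ b : Fin t → Fin 2, ∏ i, (∑ c, (gs i : Matrix (Fin 2) (Fin 2) F) c (x i) * altTwo c (b i)) *
          (gs i : Matrix (Fin 2) (Fin 2) F) (b i) (y i) := by
            refine Finset.sum_congr rfl fun b _ => ?_
            rw [Finset.prod_mul_distrib, Fintype.prod_sum]
      _ = ∏ i, ∑ d, (∑ c, (gs i : Matrix (Fin 2) (Fin 2) F) c (x i) * altTwo c d) *
          (gs i : Matrix (Fin 2) (Fin 2) F) d (y i) := by rw [Fintype.prod_sum]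
      _ = _ := Finset.prod_congr rfl fun i _ => by rw [key]; simp
  have h1 : powForm ((g : Matrix (Fin t → Fin 2) (Fin t → Fin 2) F) *ᵥ u)
      ((g : Matrix (Fin t → Fin 2) (Fin t → Fin 2) F) *ᵥ v)
      = u ⬝ᵥ ((g : Matrix (Fin t → Fin 2) (Fin t → Fin 2) F)ᵀ * formMat t *
          (g : Matrix (Fin t → Fin 2) (Fin t → Fin 2) F)) *ᵥ v := by
    rw [← Matrix.mulVec_mulVec, ← Matrix.mulVec_mulVec,
      Matrix.dotProduct_mulVec u (g : Matrix (Fin t → Fin 2) (Fin t → Fin 2) F)ᵀ, Matrix.vecMul_transpose]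
    rfl
  rw [h1, hM, Matrix.smul_mulVec, dotProduct_smul, smul_eq_mul]
  rfl

theorem perm_mem {g : GL (Fin t → Fin 2) F} (hg : IsFactorPermutation 2 t g) :
    g ∈ similarityGroup (powForm (F := F) (t := t)) := by
  obtain ⟨σ, hσ⟩ := hg
  refine ⟨1, fun u v => ?_⟩
  have hmv : ∀ (w : (Fin t → Fin 2) → F) x,
      ((g : Matrix (Fin t → Fin 2) (Fin t → Fin 2) F) *ᵥ w) x = w (x ∘ σ) := by
    intro w x
    simp [Matrix.mulVec, dotProduct, hσ]
  rw [Units.val_one, one_mul, powForm_eq, powForm_eq]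
  refine Fintype.sum_equiv ⟨fun x => x ∘ σ, fun x => x ∘ σ.symm,
    fun x => by funext i; simp, fun x => by funext i; simp⟩ _ _ fun x => ?_
  rw [hmv, hmv]
  have h2 : formMat (F := F) t (x ∘ σ) (opp (x ∘ σ)) = formMat t x (opp x) := by
    simp only [formMat, Matrix.of_apply, opp, Function.comp_apply]
    exact Equiv.prod_comp σ fun i => altTwo (x i) (x i + 1)
  simp only [Equiv.coe_fn_mk]
  rw [h2]
  rfl

theorem standard_le : tensorWreathStandard 2 t F ≤ similarityGroup (powForm (F := F) (t := t)) :=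
  (Subgroup.closure_le _).2 fun _ hg => hg.elim (fun h => pure_mem h) fun h => perm_mem h

/-- The coordinates in the tensor basis. -/
def coord (e : Fin n ≃ (Fin t → Fin 2)) (P : GL (Fin n) F) (v : Fin n → F) : (Fin t → Fin 2) → F :=
  fun x => (((P⁻¹ : GL (Fin n) F) : Matrix (Fin n) (Fin n) F) *ᵥ v) (e.symm x)

theorem coord_add (e : Fin n ≃ (Fin t → Fin 2)) (P : GL (Fin n) F) (u v : Fin n → F) :
    coord e P (u + v) = coord e P u + coord e P v := by
  funext x; simp [coord, Matrix.mulVec_add]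

theorem coord_smul (e : Fin n ≃ (Fin t → Fin 2)) (P : GL (Fin n) F) (c : F) (v : Fin n → F) :
    coord e P (c • v) = c • coord e P v := by
  funext x; simp [coord, Matrix.mulVec_smul]

theorem coord_surjective (e : Fin n ≃ (Fin t → Fin 2)) (P : GL (Fin n) F) :
    Function.Surjective (coord e P) := by
  intro w
  refine ⟨(P : Matrix (Fin n) (Fin n) F) *ᵥ fun i => w (e i), ?_⟩
  funext x
  simp [coord, Matrix.mulVec_mulVec]

theorem coord_ne_zero (e : Fin n ≃ (Fin t → Fin 2)) (P : GL (Fin n) F) {v : Fin n → F} (hv : v ≠ 0) :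
    coord e P v ≠ 0 := fun h => hv (by
  have h1 : ((P⁻¹ : GL (Fin n) F) : Matrix (Fin n) (Fin n) F) *ᵥ v = 0 := funext fun i => by
    simpa [coord] using congrFun h (e i)
  have h2 := congrArg (fun w => (P : Matrix (Fin n) (Fin n) F) *ᵥ w) h1
  simpa [Matrix.mulVec_mulVec] using h2)

theorem subgroup_similar (e : Fin n ≃ (Fin t → Fin 2)) (P : GL (Fin n) F) {g : GL (Fin n) F}
    (hg : g ∈ tensorWreathSubgroup 2 t e P) :
    ∃ c : Fˣ, ∀ u v, powForm (coord e P ((g : Matrix (Fin n) (Fin n) F) *ᵥ u))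
      (coord e P ((g : Matrix (Fin n) (Fin n) F) *ᵥ v)) = (c : F) * powForm (coord e P u) (coord e P v) := by
  obtain ⟨_, ⟨a, ha, rfl⟩, rfl⟩ := hg
  obtain ⟨c, hc⟩ := standard_le ha
  refine ⟨c, fun u v => ?_⟩
  let gg : GL (Fin n) F := (MulAut.conj P).toMonoidHom ((glReindex e.symm).toMonoidHom a)
  show powForm (coord e P ((gg : Matrix (Fin n) (Fin n) F) *ᵥ u))
    (coord e P ((gg : Matrix (Fin n) (Fin n) F) *ᵥ v)) = _
  have h : ∀ w : Fin n → F, coord e P ((gg : Matrix (Fin n) (Fin n) F) *ᵥ w) =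
      (a : Matrix (Fin t → Fin 2) (Fin t → Fin 2) F) *ᵥ coord e P w := by
    intro w
    funext x
    unfold coord
    simp only [gg, MulEquiv.coe_toMonoidHom, MulAut.conj_apply, Units.val_mul, Matrix.mulVec_mulVec,
      ← mul_assoc, Units.inv_mul, one_mul]
    rw [← Matrix.mulVec_mulVec]
    generalize ((P⁻¹ : GL (Fin n) F) : Matrix (Fin n) (Fin n) F) *ᵥ w = z
    have hre : ∀ i j, ((glReindex e.symm a : GL (Fin n) F) : Matrix (Fin n) (Fin n) F) i j =
        (a : Matrix (Fin t → Fin 2) (Fin t → Fin 2) F) (e i) (e j) := fun i j => rfl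
    simp only [Matrix.mulVec, dotProduct, hre]
    exact Fintype.sum_equiv e _ _ fun i => by simp
  rw [h, h, hc]

end WreathForm

open WreathForm in
/-- The stabiliser of a tensor decomposition into two-dimensional factors lies in a similarity group. -/
theorem tensorWreath_two_inGeo [Fintype F] (hn : 3 ≤ n) {t : ℕ} (e : Fin n ≃ (Fin t → Fin 2))
    (P : GL (Fin n) F) : InGeo (tensorWreathSubgroup 2 t e P) := by
  have hc : n = 2 ^ t := by simpa using Fintype.card_congr e
  have ht : 2 ≤ t := by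
    by_contra h
    interval_cases t <;> omega
  have heven : Even n := hc ▸ Nat.even_pow.2 ⟨even_two, by omega⟩
  have h4 : 4 ≤ n := hc ▸ le_trans (by norm_num) (Nat.pow_le_pow_right two_pos ht)
  let f : (Fin n → F) → (Fin n → F) → F := fun u v => powForm (coord e P u) (coord e P v)
  have hadd : ∀ x y v, f (x + y) v = f x v + f y v := fun x y v => by
    simp only [f, powForm, coord_add, add_dotProduct]
  have hsmul : ∀ (c : F) x v, f (c • x) v = c * f x v := fun c x v => by
    simp only [f, powForm, coord_smul, smul_dotProduct, smul_eq_mul]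
  have hadd' : ∀ v x y, f v (x + y) = f v x + f v y := fun v x y => by
    simp only [f, powForm, coord_add, Matrix.mulVec_add, dotProduct_add]
  have hsmul' : ∀ (c : F) v x, f v (c • x) = c * f v x := fun c v x => by
    simp only [f, powForm, coord_smul, Matrix.mulVec_smul, dotProduct_smul, smul_eq_mul]
  have hswap : ∀ v w, f w v = (-1) ^ t * f v w := fun v w => powForm_swap _ _
  have hnd : ∀ v, v ≠ 0 → ∃ x, f x v ≠ 0 := fun v hv => by
    obtain ⟨u, hu⟩ := powForm_nondeg (coord_ne_zero e P hv)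
    obtain ⟨x, rfl⟩ := coord_surjective e P u
    exact ⟨x, hu⟩
  by_cases hs : (-1 : F) ^ t = -1
  · refine ⟨similarityGroup f, ?_, fun g hg => subgroup_similar e P hg⟩
    refine Or.inr (Or.inr (Or.inr (Or.inr (Or.inr (Or.inr (Or.inr (Or.inr (Or.inr (Or.inl
      ⟨f, ⟨⟨hadd, hsmul, hadd', hsmul'⟩, fun v w => by rw [hswap w v, hs, neg_one_mul],
        fun v => powForm_self (by omega) hs _, fun v hv => ?_⟩, heven, h4, rfl⟩)))))))))
    obtain ⟨x, hx⟩ := hnd v hv
    exact ⟨⟨x, hx⟩, x, by rw [hswap x v, hs, neg_one_mul]; exact neg_ne_zero.2 hx⟩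
  · have h1 : (-1 : F) ^ t = 1 := (neg_one_pow_eq_or F t).resolve_right hs
    have hne : (-1 : F) ≠ 1 := fun h => hs (h1.trans h.symm)
    have hchar : ringChar F ≠ 2 := fun h => by
      haveI : CharP F 2 := h ▸ ringChar.charP F
      exact hne (CharTwo.neg_eq 1)
    have htwo : (2 : F) ≠ 0 := fun h => hne (by linear_combination (-1 : F) * h)
    have hodd : Odd (Fintype.card F) := Nat.odd_iff.2 (FiniteField.odd_card_of_char_ne_two hchar)
    let Q : (Fin n → F) → F := fun v => f v v
    have hpol : ∀ u v, QuadraticMap.polar Q u v = 2 * f u v := fun u v => by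
      simp only [QuadraticMap.polar, Q, hadd, hadd']
      rw [hswap u v, h1]
      ring
    refine ⟨quadSimilarityGroup Q, ?_, fun g hg => ?_⟩
    · refine Or.inr (Or.inr (Or.inr (Or.inr (Or.inr (Or.inr (Or.inr (Or.inr (Or.inr (Or.inr (Or.inr
        ⟨Q, ⟨fun c v => by simp only [Q, hsmul, hsmul']; ring, ⟨?_, ?_, ?_, ?_⟩, fun v hv => ?_⟩,
          hodd, hn, rfl⟩))))))))))
      · intro x y v; simp only [hpol, hadd]; ring
      · intro c x v; simp only [hpol, hsmul]; ring
      · intro v x y; simp only [hpol, hadd']; ring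
      · intro c v x; simp only [hpol, hsmul']; ring
      · obtain ⟨x, hx⟩ := hnd v hv
        exact ⟨⟨x, by rw [hpol]; exact mul_ne_zero htwo hx⟩,
          x, by rw [hpol, hswap x v, h1, one_mul]; exact mul_ne_zero htwo hx⟩
    · obtain ⟨c, hc⟩ := subgroup_similar e P hg
      exact ⟨c, fun v => hc v v⟩

end Cfsg.Agent.Lib.LinearAny
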