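import Cfsg.Agent.Lib.LinearAny.Defs
import Cfsg.Agent.Lib.LinearAny.WreathForm
import Cfsg.Agent.Lib.SLTwoPrime.Core
import Cfsg.Agent.Lib.LinearMax.SubField

/-!
helper29: outside the geometric classes every normalised subgroup is scalar or spans the full matrix algebra.
-/

set_option autoImplicit false

namespace Cfsg.Agent.Lib.LinearAny

open Cfsg.Geo Matrix Cfsg.Agent.Lib.SLTwoPrime
open scoped MatrixGroups Kronecker

variable {F : Type*} [Field F] [Fintype F] {n : ℕ} {H : Subgroup (GL (Fin n) F)}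

/-- A normalised commutative algebra consists of scalars. -/
theorem comm_scalar (hn : 3 ≤ n) (hirr : ActsIrreducibly (matrixSet H)) (hgeo : ¬ InGeo H)
    {A : Subalgebra F (Matrix (Fin n) (Fin n) F)} (hA : Inv H A) (hcomm : ∀ x ∈ A, ∀ y ∈ A, x * y = y * x) :
    ∀ a ∈ A, ∃ c : F, a = c • 1 := by
  haveI : Nonempty (Fin n) := ⟨⟨0, by omega⟩⟩
  rcases comm_cases hirr hA hcomm with hK | ⟨t, m, D, hD, hle⟩
  swap
  · exact absurd ⟨_, Or.inr (Or.inr (Or.inr (Or.inl ⟨t, m, D, hD, rfl⟩))), hle⟩ hgeo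
  intro a ha
  have hpos : 0 < Module.finrank F A :=
    Module.finrank_pos_iff_exists_ne_zero.mpr ⟨1, fun h => zero_ne_one (congrArg Subtype.val h).symm⟩
  rcases Nat.lt_or_ge 1 (Module.finrank F A) with h1 | h1
  · exfalso
    obtain ⟨p, hp, hpr⟩ := Nat.exists_prime_and_dvd (Nat.ne_of_gt h1)
    obtain ⟨L, hL, hle⟩ := LinearMax.exists_subfield hpos hpr hK
    refine hgeo ⟨_, Or.inr (Or.inr (Or.inr (Or.inr (Or.inl ⟨p, L, hp, hL, rfl⟩)))), fun h hh => hle fun k => ?_⟩
    refine ⟨fun hk => hA h hh k hk, fun hk => ?_⟩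
    have := hA h⁻¹ (inv_mem hh) _ hk
    simpa [mul_assoc] using this
  · obtain ⟨c, hc⟩ := (finrank_eq_one_iff_of_nonzero' (⟨1, A.one_mem⟩ : Subalgebra.toSubmodule A)
      (fun h => zero_ne_one (congrArg Subtype.val h).symm)).mp
        (show Module.finrank F (Subalgebra.toSubmodule A) = 1 by rw [Subalgebra.finrank_toSubmodule]; omega) ⟨a, ha⟩
    exact ⟨c, (congrArg Subtype.val hc).symm⟩

/-- A tensor decomposition with equal factors lies in a tensor wreath group. -/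
theorem le_tensorWreath_two {d : ℕ} (e : Fin n ≃ Fin d × Fin d) (P : GL (Fin n) F) :
    tensorProductSubgroup d d e P ≤ tensorWreathSubgroup d 2 (e.trans (piFinTwoEquiv fun _ => Fin d).symm) P := by
  rintro _ ⟨_, ⟨g, ⟨a, b, hg⟩, rfl⟩, rfl⟩
  refine ⟨_, ⟨glReindex (piFinTwoEquiv fun _ => Fin d).symm g, Subgroup.subset_closure (Or.inl ⟨![a, b], fun x y => ?_⟩),
    ?_⟩, rfl⟩
  · show (g : Matrix (Fin d × Fin d) (Fin d × Fin d) F) (x 0, x 1) (y 0, y 1) = _
    rw [hg, Fin.prod_univ_two]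
    rfl
  · apply Units.ext
    ext i j
    rfl

/-- Scalar or full, given the case of two by two tensor factors. -/
theorem scalar_or_top_of (hn : 3 ≤ n) (hwreath : ∀ (e : Fin n ≃ (Fin 2 → Fin 2)) (P : GL (Fin n) F),
      InGeo (tensorWreathSubgroup 2 2 e P))
    {N : Subgroup (GL (Fin n) F)} (hirr : ActsIrreducibly (matrixSet H)) (hgeo : ¬ InGeo H)
    (hnorm : ∀ g ∈ H, ∀ x ∈ N, g * x * g⁻¹ ∈ N) : N ≤ scalars (Fin n) F ∨ adj N = ⊤ := by
  classical
  haveI : Nonempty (Fin n) := ⟨⟨0, by omega⟩⟩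
  have hA := inv_adj hnorm
  obtain ⟨d, φ, hd, hrange, hφ⟩ := matrix_form hirr hA fun z hz hzc =>
    comm_scalar hn hirr hgeo (inv_centre hA)
      (fun x hx y hy => ((mem_centreAlg.1 hx).2 y (mem_centreAlg.1 hy).1).symm) z
      (mem_centreAlg.2 ⟨hz, fun a ha => (hzc a ha).symm⟩)
  obtain ⟨w, e, P, hdw, hP⟩ := units_form hd φ
  rw [Fintype.card_fin] at hdw
  have hw : 0 < w := Nat.pos_of_ne_zero fun h => by subst h; omega
  have hH : H ≤ tensorProductSubgroup d w e P := fun h hh =>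
    normalizer_form hd hφ hP hw h fun a ha => hrange ▸ hA h hh a (hrange ▸ ha)
  rcases Nat.lt_or_ge 1 d with hd1 | hd1
  swap
  · left
    obtain rfl : d = 1 := by omega
    intro x hx
    have hx' : (x : Matrix (Fin n) (Fin n) F) ∈ φ.range := hrange ▸ mem_adj hx
    obtain ⟨a, ha⟩ := hx'
    have ha1 : a = a 0 0 • 1 := by ext i j; fin_cases i; fin_cases j; simp
    refine mem_scalars_of_val (c := a 0 0) ?_
    rw [← ha]
    change φ a = _
    conv_lhs => rw [ha1]
    rw [map_smul, map_one]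
  rcases Nat.lt_or_ge 1 w with hw1 | hw1
  swap
  · right
    obtain rfl : w = 1 := by omega
    obtain rfl : d = n := by omega
    rw [← hrange, eq_top_iff]
    have h : Module.finrank F φ.range = Module.finrank F (Matrix (Fin d) (Fin d) F) := by
      rw [← (AlgEquiv.ofInjective φ hφ).toLinearEquiv.finrank_eq]
    rw [← Subalgebra.finrank_toSubmodule] at h
    exact (Algebra.toSubmodule_eq_top.1 (Submodule.eq_top_of_finrank_eq h)).ge
  exfalso
  rcases lt_trichotomy d w with hlt | heq | hgt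
  · exact hgeo ⟨_, Or.inr (Or.inr (Or.inr (Or.inr (Or.inr (Or.inl ⟨d, w, e, P, hd1, hlt, rfl⟩))))), hH⟩
  · subst heq
    have hle := hH.trans (le_tensorWreath_two e P)
    rcases Nat.lt_or_ge 2 d with hd2 | hd2
    · exact hgeo ⟨_, Or.inr (Or.inr (Or.inr (Or.inr (Or.inr (Or.inr (Or.inr (Or.inr (Or.inl
        ⟨d, 2, _, P, hd2, le_rfl, rfl⟩)))))))), hle⟩
    · obtain rfl : d = 2 := by omega
      obtain ⟨M, hM, hWM⟩ := hwreath (e.trans (piFinTwoEquiv fun _ => Fin 2).symm) P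
      exact hgeo ⟨M, hM, hle.trans hWM⟩
  · exact hgeo ⟨_, Or.inr (Or.inr (Or.inr (Or.inr (Or.inr (Or.inl
      ⟨w, d, e.trans (Equiv.prodComm _ _), P, hw1, hgt, rfl⟩))))), fun h hh => tensor_swap e P (hH hh)⟩

/-- Outside the geometric classes a normalised subgroup is scalar or spans the matrix algebra. -/
theorem scalar_or_top (hn : 3 ≤ n) {N : Subgroup (GL (Fin n) F)} (hirr : ActsIrreducibly (matrixSet H))
    (hgeo : ¬ InGeo H) (hnorm : ∀ g ∈ H, ∀ x ∈ N, g * x * g⁻¹ ∈ N) :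
    N ≤ scalars (Fin n) F ∨ adj N = ⊤ :=
  scalar_or_top_of hn (fun e P => tensorWreath_two_inGeo hn e P) hirr hgeo hnorm

end Cfsg.Agent.Lib.LinearAny
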