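import Cfsg.Agent.Lib.LinearAny.Core
import Cfsg.Agent.Lib.LinearAny.Geo
import Cfsg.Agent.Lib.LinearAny.Factors

/-!
# Subgroup structure of SL_n, n ≥ 3: assembly of the steps
-/

set_option autoImplicit false

namespace Cfsg.Agent.Lib.LinearAny

open Cfsg Cfsg.Geo Matrix KnownA.PrimeDim
open scoped MatrixGroups

variable {F : Type*} [Field F] [Fintype F] {n : ℕ}

/-- Reducible groups lie in the first class. -/
theorem reducible_inGeo {H : Subgroup (GL (Fin n) F)} (h : ¬ ActsIrreducibly (matrixSet H)) : InGeo H := by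
  simp only [ActsIrreducibly, not_forall, not_or] at h
  obtain ⟨W, hW, h0, h1⟩ := h
  refine ⟨_, Or.inl ⟨W, h0, h1, rfl⟩, fun g hg v => ?_⟩
  have hstep : ∀ k ∈ H, ∀ w ∈ W, (k : Matrix (Fin n) (Fin n) F) *ᵥ w ∈ W := fun k hk w hw =>
    hW _ ⟨k, hk, rfl⟩ ⟨w, hw, Matrix.toLin'_apply _ _⟩
  refine ⟨hstep g hg v, fun hv => ?_⟩
  have := hstep g⁻¹ (inv_mem hg) _ hv
  simpa [Matrix.mulVec_mulVec] using this

/-- An irreducible group in dimension at least two is not scalar. -/
theorem not_le_scalars (hn : 3 ≤ n) {H : Subgroup (GL (Fin n) F)} (hirr : ActsIrreducibly (matrixSet H)) :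
    ¬ H ≤ scalars (Fin n) F := by
  intro hle
  let i0 : Fin n := ⟨0, by omega⟩
  have hinv : ∀ s ∈ matrixSet H, (Submodule.span F {Pi.single i0 (1 : F)}).map (Matrix.toLin' s) ≤
      Submodule.span F {Pi.single i0 (1 : F)} := by
    rintro _ ⟨g, hg, rfl⟩ _ ⟨v, hv, rfl⟩
    obtain ⟨c, hc⟩ := (mem_scalars_iff g).1 (hle hg)
    simp only [Matrix.toLin'_apply, hc, Matrix.smul_mulVec, Matrix.one_mulVec]
    exact Submodule.smul_mem _ _ hv
  rcases hirr (Submodule.span F {Pi.single i0 1}) hinv with h | h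
  · rw [Submodule.span_singleton_eq_bot, Pi.single_eq_zero_iff] at h
    exact one_ne_zero h
  · have := congrArg (fun W : Submodule F (Fin n → F) => Module.finrank F W) h
    simp only [finrank_top, Module.finrank_fin_fun] at this
    rw [finrank_span_singleton (by simp)] at this
    omega

/-- The structure theorem, given the class six and residual steps. -/
theorem structure_of (hn : 3 ≤ n) {H : Subgroup (GL (Fin n) F)} (hHS : H ≤ specialLinear (Fin n) F)
    (hsix : ∀ {N : Subgroup (GL (Fin n) F)}, N ≤ H → (∀ g ∈ H, ∀ x ∈ N, g * x * g⁻¹ ∈ N) →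
      ¬ N ≤ scalars (Fin n) F →
      (∀ M, M ≤ N → (∀ g ∈ H, ∀ x ∈ M, g * x * g⁻¹ ∈ M) → ¬ M ≤ scalars (Fin n) F →
        M ⊔ (scalars (Fin n) F ⊓ H) = N) →
      ActsIrreducibly (matrixSet H) → ¬ InGeo H → ActsAbsolutelyIrreducibly (matrixSet N) →
      H ≤ specialLinear (Fin n) F → ⁅N, N⁆ ≤ scalars (Fin n) F → False)
    (hres : ∀ {P : Subgroup (GL (Fin n) F)}, Core H P → InGeo H ∨ InLinearResidualClass H) :
    InGeo H ∨ InLinearResidualClass H := by
  classical
  haveI : Nonempty (Fin n) := ⟨⟨0, by omega⟩⟩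
  by_cases hgeo : InGeo H
  · exact Or.inl hgeo
  have hirr : ActsIrreducibly (matrixSet H) := not_not.1 fun h => hgeo (reducible_inGeo h)
  obtain ⟨N, hNH, hNn, hNs, -, hmin⟩ := exists_minimal (not_le_scalars hn hirr)
  have habs : ActsAbsolutelyIrreducibly (matrixSet N) :=
    SLTwoPrime.absIrred_of_top ((scalar_or_top hn hirr hgeo hNn).resolve_left hNs)
  rcases class_two_or_core hn hNH hNn hmin habs with h | h | ⟨t, D, hD⟩
  · exact (hsix hNH hNn hNs hmin hirr hgeo habs hHS h).elim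
  · exact hres h
  · obtain ⟨d, e, P, hd, hle⟩ := family_wreath (by omega) hD
    rcases eq_or_lt_of_le hd with h2 | h3
    · subst h2
      obtain ⟨M, hM, hle'⟩ := tensorWreath_two_inGeo hn e P
      exact Or.inl ⟨M, hM, hle.trans hle'⟩
    · exact Or.inl ⟨_, Or.inr (Or.inr (Or.inr (Or.inr (Or.inr (Or.inr (Or.inr (Or.inr (Or.inl
        ⟨d, t, e, P, h3, hD.two_le, rfl⟩)))))))), hle⟩

end Cfsg.Agent.Lib.LinearAny
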