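import Cfsg.Agent.Lib.LinearAny.Defs
import Cfsg.Agent.Lib.KnownA.PrimeDim.Main

/-!
A residual core of a subgroup of `SL_n`: the group lies in a subfield or form class, or is in the residual class.
-/

set_option autoImplicit false
set_option linter.style.haveILetI false

namespace Cfsg.Agent.Lib.LinearAny

open Matrix Cfsg.Geo
open Cfsg.Agent.Lib
open scoped MatrixGroups Matrix

variable {F : Type*} [Field F] {n : ℕ}

/-- The residual step. -/
theorem core_cases [Fintype F] (hn : 3 ≤ n) {H P : Subgroup (GL (Fin n) F)} (hC : KnownA.PrimeDim.Core H P) :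
    InGeo H ∨ InLinearResidualClass H := by
  haveI : Nonempty (Fin n) := ⟨⟨0, by omega⟩⟩
  have habs := hC.absIrred
  by_cases hsub : ∃ F₀ : Subfield F, F₀ ≠ ⊤ ∧ RealisableOver F₀ (matrixSet P)
  · obtain ⟨F₀, h0, hreal⟩ := hsub
    obtain ⟨F₁, r, h1, hr, hc, B, hB⟩ := PrimeDim.FormDescent.exists_prime_index_realisable h0 hreal
    refine Or.inl ⟨subfieldSubgroup F₁ B⁻¹, Or.inr (Or.inr (Or.inr (Or.inr (Or.inr (Or.inr (Or.inl
      ⟨F₁, r, B⁻¹, hr, by rw [← Nat.card_eq_fintype_card]; exact hc, rfl⟩)))))), fun h hh => ?_⟩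
    exact PrimeDim.FormDescent.mem_subfieldSubgroup_of_normalises P habs
      (fun p hp => hB _ ⟨p, hp, rfl⟩) fun x hx => hC.normal h hh x hx
  simp only [not_exists, not_and] at hsub
  have bil : ∀ f : (Fin n → F) → (Fin n → F) → F, IsBilinearForm f → IsNondegenerateForm f →
      FixesForm (matrixSet P) f → H ≤ similarityGroup f := fun f hf hnd hfix h hh =>
    LinearMax.normaliser_similarity (RingHom.id F)
      (PrimeDim.FormDescent.form_eq _ f hf.add_left hf.smul_left hf.add_right hf.smul_right) hnd habs hfix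
      fun x hx => hC.normal h hh x hx
  have symp : ∀ f : (Fin n → F) → (Fin n → F) → F, IsSymplecticForm f → H ≤ similarityGroup f → InGeo H := by
    intro f hf hle
    have hev : Even n := (Nat.even_or_odd n).resolve_right fun ho => KnownA.PrimeDim.no_symplectic_odd ho hf
    refine ⟨similarityGroup f, Or.inr (Or.inr (Or.inr (Or.inr (Or.inr (Or.inr (Or.inr (Or.inr (Or.inr (Or.inl
      ⟨f, hf, hev, ?_, rfl⟩))))))))), hle⟩
    obtain ⟨k, hk⟩ := hev
    omega
  by_cases hQ : ∃ Q : (Fin n → F) → F, IsNondegenerateQuadraticForm Q ∧ FixesQuadForm (matrixSet P) Q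
  · obtain ⟨Q, hQ, hQfix⟩ := hQ
    have hfix' : FixesForm (matrixSet P) (QuadraticMap.polar Q) := fun s hs u v => by
      simp only [QuadraticMap.polar, ← Matrix.mulVec_add, hQfix s hs]
    have hle := bil _ hQ.polar_bilinear hQ.nondegenerate hfix'
    by_cases h2 : (2 : F) = 0
    · refine Or.inl (symp _ ⟨hQ.polar_bilinear, fun v w => ?_, fun v => ?_, hQ.nondegenerate⟩ hle)
      · rw [QuadraticMap.polar_comm Q v w]
        linear_combination (QuadraticMap.polar Q w v) * h2
      · rw [KnownA.PrimeDim.polar_apply_self hQ, h2, zero_mul]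
    · refine Or.inl ⟨quadSimilarityGroup Q, Or.inr (Or.inr (Or.inr (Or.inr (Or.inr (Or.inr (Or.inr (Or.inr (Or.inr
        (Or.inr (Or.inr ⟨Q, hQ, ?_, hn, rfl⟩)))))))))), fun h hh => ?_⟩
      · rw [Nat.odd_iff]
        exact FiniteField.odd_card_of_char_ne_two fun h => h2 (by
          haveI := ringChar.of_eq h
          exact CharTwo.two_eq_zero)
      · obtain ⟨c, hc⟩ := hle hh
        refine ⟨c, fun v => ?_⟩
        have e := hc v v
        rw [KnownA.PrimeDim.polar_apply_self hQ, KnownA.PrimeDim.polar_apply_self hQ] at e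
        exact mul_left_cancel₀ h2 (by linear_combination e)
  by_cases hf : ∃ f : (Fin n → F) → (Fin n → F) → F, IsSymplecticForm f ∧ FixesForm (matrixSet P) f
  · obtain ⟨f, hf, hfix⟩ := hf
    exact Or.inl (symp f hf (bil f hf.bilinear hf.nondegenerate hfix))
  by_cases hu : ∃ (σ : F ≃+* F) (f : (Fin n → F) → (Fin n → F) → F), IsUnitaryForm σ f ∧ FixesForm (matrixSet P) f
  · obtain ⟨σ, f, hu, hfix⟩ := hu
    have hs := KnownA.PrimeDim.Sesq.of_unitary hu
    refine Or.inl ⟨similarityGroup f, Or.inr (Or.inr (Or.inr (Or.inr (Or.inr (Or.inr (Or.inr (Or.inr (Or.inr (Or.inr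
      (Or.inl ⟨σ, f, hu, hn, rfl⟩)))))))))), fun h hh => ?_⟩
    exact LinearMax.normaliser_similarity (σ : F →+* F)
      (PrimeDim.FormDescent.form_eq (σ : F →+* F) f hs.add_left hs.smul_left hs.add_right hs.smul_right)
      hu.nondegenerate habs hfix fun x hx => hC.normal h hh x hx
  exact Or.inr ⟨P, hC.residual hsub, hQ, hf, hu⟩

end Cfsg.Agent.Lib.LinearAny
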